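import Cfsg.Agent.Lib.Fi.M23
import Cfsg.Agent.Lib.Fi.NPair

set_option autoImplicit false
set_option maxRecDepth 1000000
set_option maxHeartbeats 0
set_option Elab.async false

namespace Cfsg.Lib.Fi.M23

open Cfsg.Lib.Calc

variable {G : Type*} [Group G] {D : Set G} {τ : ℕ → G}
noncomputable def np_0 : Lev := ⟨(nat_lit 15796), [(.l (nat_lit 8002)), (.l (nat_lit 8001)), (.l (nat_lit 8007)), (.l (nat_lit 8004)), (.l (nat_lit 7999)), (.l (nat_lit 8003)), (.l (nat_lit 8000)), (.l (nat_lit 4298))], (nat_lit 4), 21840, (.diff (.diff (.diff .all (.adj wone (nat_lit 1))) (.adj wone (nat_lit 0))) (.adj (.l (nat_lit 0)) (nat_lit 1))), (nat_lit 0), []⟩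
theorem np_0_ok : F.levOK [(.l (nat_lit 11589)), (.l (nat_lit 8006))] np_0 = true := by decide +kernel
noncomputable def np_tl : List Lev := [
  ⟨(nat_lit 25366), [(.l (nat_lit 8001)), (.l (nat_lit 1011)), (.l (nat_lit 1119)), (.l (nat_lit 509)), (.l (nat_lit 1378)), (.l (nat_lit 1024)), (.l (nat_lit 2521)), (.l (nat_lit 2525)), (tw [(nat_lit 1390), (nat_lit 4515), (nat_lit 3387), (nat_lit 4250), (nat_lit 383), (nat_lit 5358)]), (tw [(nat_lit 3443), (nat_lit 3381), (nat_lit 1919), (nat_lit 8001), (nat_lit 4249)])], (nat_lit 2), 7776, (.diff (.diff (.diff (.diff (.diff (.diff (.diff (.diff (.diff .all (.adj wone (nat_lit 2))) (.adj wone (nat_lit 1))) (.adj (.l (nat_lit 1)) (nat_lit 2))) (.adj wone (nat_lit 0))) (.adj (.l (nat_lit 1)) (nat_lit 0))) (.adj (.l (nat_lit 2)) (nat_lit 0))) (.adj (.mul (.l (nat_lit 2)) (.l (nat_lit 1))) (nat_lit 0))) (.adj (.mul (.l (nat_lit 1)) (.l (nat_lit 2))) (nat_lit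 0))) (.adj (.mul (.l (nat_lit 1)) (.mul (.l (nat_lit 2)) (.l (nat_lit 1)))) (nat_lit 0))), (nat_lit 1), [.pt (nat_lit 1192) (.mul (.l (nat_lit 3)) (.mul (.l (nat_lit 2)) (.mul (.l (nat_lit 1)) (.mul (.l (nat_lit 3)) (.mul (.l (nat_lit 2)) (.l (nat_lit 1)))))))]⟩,
  ⟨(nat_lit 7999), [(tw [(nat_lit 509), (nat_lit 1118), (nat_lit 518), (nat_lit 115), (nat_lit 4282), (nat_lit 6549)]), (tw [(nat_lit 8002), (nat_lit 1406), (nat_lit 724), (nat_lit 1414), (nat_lit 1382), (nat_lit 346), (nat_lit 511)]), (tw [(nat_lit 2526), (nat_lit 1945), (nat_lit 1025), (nat_lit 4281), (nat_lit 8002), (nat_lit 2132), (nat_lit 6550), (nat_lit 166)])], (nat_lit 2), 27, (.and (.and (.adj wone (nat_lit 3)) (.adj wone (nat_lit 2))) (.adj (.mul (.l (nat_lit 1)) (.mul (.l (nat_lit 0)) (.mul (.l (nat_lit 3)) (.l (nat_lit 2))))) (nat_lit 1))), (nat_lit 0), []⟩,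
  ⟨(nat_lit 8002), [], (nat_lit 0), 1, (.pnt (.mul (.l (nat_lit 1)) (.mul (.l (nat_lit 2)) (.mul (.l (nat_lit 3)) (.mul (.l (nat_lit 4)) (.mul (.l (nat_lit 3)) (.mul (.l (nat_lit 1)) (.mul (.l (nat_lit 0)) (.mul (.l (nat_lit 4)) (.mul (.l (nat_lit 2)) (.l (nat_lit 3))))))))))) (nat_lit 1)), (nat_lit 0), []⟩,
  ⟨(nat_lit 8000), [], (nat_lit 0), 1, (.diff (.diff (.and (.and (.and (.adj wone (nat_lit 0)) (.adj (.mul (.l (nat_lit 2)) (.l (nat_lit 0))) (nat_lit 3))) (.adj (.mul (.l (nat_lit 2)) (.mul (.l (nat_lit 5)) (.l (nat_lit 4)))) (nat_lit 3))) (.adj (.mul (.l (nat_lit 3)) (.mul (.l (nat_lit 4)) (.l (nat_lit 5)))) (nat_lit 2))) (.adj wone (nat_lit 1))) (.adj (.l (nat_lit 1)) (nat_lit 3))), (nat_lit 0), []⟩,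
  ⟨(nat_lit 26288), [], (nat_lit 0), 1, (.pnt (.mul (.l (nat_lit 0)) (.mul (.l (nat_lit 1)) (.mul (.l (nat_lit 3)) (.mul (.l (nat_lit 1)) (.mul (.l (nat_lit 6)) (.mul (.l (nat_lit 3)) (.mul (.l (nat_lit 5)) (.l (nat_lit 6))))))))) (nat_lit 4)), (nat_lit 0), []⟩,
  ⟨(nat_lit 3863), [], (nat_lit 0), 1, (.pnt (.mul (.l (nat_lit 2)) (.mul (.l (nat_lit 0)) (.mul (.l (nat_lit 6)) (.mul (.l (nat_lit 7)) (.mul (.l (nat_lit 6)) (.mul (.l (nat_lit 0)) (.l (nat_lit 1)))))))) (nat_lit 4)), (nat_lit 0), []⟩,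
  ⟨(nat_lit 8358), [], (nat_lit 0), 1, (.pnt (.mul (.l (nat_lit 0)) (.mul (.l (nat_lit 2)) (.mul (.l (nat_lit 8)) (.mul (.l (nat_lit 1)) (.mul (.l (nat_lit 4)) (.mul (.l (nat_lit 0)) (.l (nat_lit 1)))))))) (nat_lit 7)), (nat_lit 0), []⟩]
theorem np_tl_ok : F.certOK np_tl [(.l (nat_lit 15796)), (.l (nat_lit 11589)), (.l (nat_lit 8006))] = true := by decide +kernel
noncomputable def np_lv : List Lev := np_0 :: np_tl
theorem np_ok : F.certOK np_lv [(.l (nat_lit 11589)), (.l (nat_lit 8006))] = true :=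
  (FD.certOK_cons np_0_ok np_tl_ok)
theorem np_cert (h : H23 D τ) : Cert τ [.l (nat_lit 11589), .l (nat_lit 8006)] (levGens np_lv) 4585351680 := h.cert np_ok
theorem np_in : FD.inOK (n := 31671) (F.adjL [(nat_lit 11589), (nat_lit 8006)]) (levGens np_lv) = true := by decide +kernel
theorem np_sub : FD.subM (n := 31671) (F.fixM (tw [(nat_lit 11589), (nat_lit 8006)])) (F.adjL [(nat_lit 11589)]) = true := by decide +kernel
def np_l : List ℕ := [(nat_lit 8007), (nat_lit 7999), (nat_lit 6525), (nat_lit 115), (nat_lit 4381), (nat_lit 6524), (nat_lit 1894)]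
theorem np_nb : F.nbOK [(nat_lit 11589), (nat_lit 8006)] np_l = true := by decide +kernel
noncomputable def np6_lv : List Lev := [
  ⟨(nat_lit 314), [(.l (nat_lit 11589)), (.l (nat_lit 8006))], (nat_lit 2), 6, (.diff (.diff (.diff (.and (.and (.adj wone (nat_lit 1)) (.adj (.mul (.l (nat_lit 0)) (.l (nat_lit 2))) (nat_lit 4))) (.adj (.mul (.l (nat_lit 2)) (.l (nat_lit 3))) (nat_lit 4))) (.adj wone (nat_lit 3))) (.adj wone (nat_lit 4))) (.adj wone (nat_lit 2))), (nat_lit 0), []⟩,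
  ⟨(nat_lit 8000), [], (nat_lit 0), 1, (.pnt (.mul (.l (nat_lit 5)) (.mul (.l (nat_lit 1)) (.mul (.l (nat_lit 2)) (.l (nat_lit 4))))) (nat_lit 5)), (nat_lit 0), []⟩,
  ⟨(nat_lit 8002), [], (nat_lit 0), 1, (.pnt (.mul (.l (nat_lit 4)) (.mul (.l (nat_lit 6)) (.mul (.l (nat_lit 2)) (.mul (.l (nat_lit 3)) (.mul (.l (nat_lit 0)) (.l (nat_lit 7))))))) (nat_lit 8)), (nat_lit 0), []⟩,
  ⟨(nat_lit 3863), [], (nat_lit 0), 1, (.pnt (.mul (.l (nat_lit 0)) (.mul (.l (nat_lit 1)) (.mul (.l (nat_lit 3)) (.mul (.l (nat_lit 7)) (.mul (.l (nat_lit 1)) (.l (nat_lit 8))))))) (nat_lit 2)), (nat_lit 0), []⟩,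
  ⟨(nat_lit 26288), [], (nat_lit 0), 1, (.pnt (.mul (.l (nat_lit 4)) (.mul (.l (nat_lit 10)) (.mul (.l (nat_lit 5)) (.l (nat_lit 0))))) (nat_lit 3)), (nat_lit 0), []⟩,
  ⟨(nat_lit 8358), [], (nat_lit 0), 1, (.pnt (.mul (.l (nat_lit 2)) (.mul (.l (nat_lit 6)) (.mul (.l (nat_lit 0)) (.mul (.l (nat_lit 10)) (.mul (.l (nat_lit 1)) (.l (nat_lit 3))))))) (nat_lit 9)), (nat_lit 0), []⟩,
  ⟨(nat_lit 8006), [], (nat_lit 0), 1, (.pnt (.mul (.l (nat_lit 0)) (.mul (.l (nat_lit 1)) (.mul (.l (nat_lit 6)) (.mul (.l (nat_lit 0)) (.l (nat_lit 1)))))) (nat_lit 4)), (nat_lit 0), []⟩]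
theorem np6_ok : F.certOK np6_lv [(.l (nat_lit 8007)), (.l (nat_lit 7999)), (.l (nat_lit 6525)), (.l (nat_lit 115)), (.l (nat_lit 4381)), (.l (nat_lit 6524)), (.l (nat_lit 1894))] = true := by decide +kernel
theorem np6_cert (h : H23 D τ) : Cert τ [(.l (nat_lit 8007)), (.l (nat_lit 7999)), (.l (nat_lit 6525)), (.l (nat_lit 115)), (.l (nat_lit 4381)), (.l (nat_lit 6524)), (.l (nat_lit 1894))] (levGens np6_lv) 6 := h.cert np6_ok
theorem np6 (h : H23 D τ) : Nat.card (CZ τ [(.l (nat_lit 8007)), (.l (nat_lit 7999)), (.l (nat_lit 6525)), (.l (nat_lit 115)), (.l (nat_lit 4381)), (.l (nat_lit 6524)), (.l (nat_lit 1894))]) = 6 := (np6_cert h).card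
theorem npr0 (h : H23 D τ) (hD : IsThreeTranspositionGroup D) : NPr D (τ 11589) (τ 8006) :=
  h.npr hD (by decide +kernel) (by decide +kernel) (np_cert h) np_in np_sub np_nb (np6_cert h)
theorem npr (h : H23 D τ) (hD : IsThreeTranspositionGroup D) {a d : G} (ha : a ∈ D) (hd : d ∈ D) (hc : ¬Commute a d) :
    NPr D a d := by
  obtain ⟨τ', h, rfl, rfl⟩ := h.stdn std1 kn_gen kn_cov ha hd hc
  exact npr0 h hD
theorem np_w : F.widthOK (tw [(nat_lit 11589), (nat_lit 8006)]) [(nat_lit 7999), (nat_lit 8001), (nat_lit 8003), (nat_lit 8007), (nat_lit 178), (nat_lit 794), (nat_lit 2893)] 7 = true := by decide +kernel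
noncomputable def np_k1 : List W := [
  (.l (nat_lit 8000)),
  (.l (nat_lit 8001)),
  (.l (nat_lit 8002)),
  (.l (nat_lit 8003)),
  (.l (nat_lit 8004)),
  (.l (nat_lit 8007)),
  (.l (nat_lit 4298)),
  (.l (nat_lit 6522))]
theorem np_k1_gen : F.genOK (pws [(nat_lit 11589), (nat_lit 8006)]) np_k1 = true := by decide +kernel
theorem np_k1_cov : F.coverOK np_k1 (nat_lit 4) [(nat_lit 7999)] (F.adjL [(nat_lit 11589), (nat_lit 8006)]) = true := by decide +kernel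
noncomputable def np_k2 : List W := [
  (.l (nat_lit 8001)),
  (.l (nat_lit 8002)),
  (.l (nat_lit 8003)),
  (.l (nat_lit 8004)),
  (.l (nat_lit 8007)),
  (.l (nat_lit 4298)),
  (.l (nat_lit 115))]
theorem np_k2_gen : F.genOK (pws [(nat_lit 7999), (nat_lit 11589), (nat_lit 8006)]) np_k2 = true := by decide +kernel
theorem np_k2_cov : F.coverOK np_k2 (nat_lit 3) [(nat_lit 8000)] (Nat.land (F.adjL [(nat_lit 11589), (nat_lit 8006)]) (Nat.xor (F.adjL [(nat_lit 7999)]) (msk 31671))) = true := by decide +kernel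
theorem np_bc : F.nbOK [(nat_lit 11589), (nat_lit 8006)] [(nat_lit 7999), (nat_lit 8000)] = true := by decide +kernel
theorem np_nc : Nat.beq (F.pw (.l (nat_lit 7999)) true (nat_lit 8000)) (nat_lit 8000) = false := by decide +kernel

end Cfsg.Lib.Fi.M23
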