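import Cfsg.Agent.Lib.Fi.M24Z

set_option autoImplicit false
set_option maxRecDepth 1000000
set_option maxHeartbeats 0
set_option Elab.async false

namespace Cfsg.Lib.Fi.M24

open Cfsg.Lib.Calc

variable {G : Type*} [Group G] {D : Set G} {τ : ℕ → G}
noncomputable def w4 : W := (tw [(nat_lit 49786), (nat_lit 169), (nat_lit 646), (nat_lit 1226), (nat_lit 32427), (nat_lit 248), (nat_lit 5170), (nat_lit 49786), (nat_lit 169), (nat_lit 646), (nat_lit 1226), (nat_lit 32427), (nat_lit 248), (nat_lit 5170)])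
theorem w4_ord : F.oneOK (.pow w4 3) = true := by decide +kernel
theorem w4_ne : F.neOK w4 wone (nat_lit 34) = true := by decide +kernel
noncomputable def YN4 : List W := YQ4 ++ [w4]
def rN4_T : List (List ℕ) := [[(nat_lit 1), (nat_lit 9), (nat_lit 3), (nat_lit 27), (nat_lit 109), (nat_lit 973), (nat_lit 729), (nat_lit 2187), (nat_lit 8776), (nat_lit 59049), (nat_lit 19683), (nat_lit 531444), (nat_lit 177156), (nat_lit 3209392)],
  [(nat_lit 1), (nat_lit 3), (nat_lit 13), (nat_lit 108), (nat_lit 81), (nat_lit 973), (nat_lit 729), (nat_lit 6670), (nat_lit 2215), (nat_lit 59049), (nat_lit 19683), (nat_lit 708591), (nat_lit 531441), (nat_lit 3917898)],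
  [(nat_lit 1), (nat_lit 3), (nat_lit 9), (nat_lit 27), (nat_lit 81), (nat_lit 59049), (nat_lit 78733), (nat_lit 2187), (nat_lit 6561), (nat_lit 973), (nat_lit 243), (nat_lit 177147), (nat_lit 531441), (nat_lit 1653615)],
  [(nat_lit 1), (nat_lit 3), (nat_lit 9), (nat_lit 27), (nat_lit 81), (nat_lit 243), (nat_lit 729), (nat_lit 2187), (nat_lit 6561), (nat_lit 20656), (nat_lit 59292), (nat_lit 177147), (nat_lit 531441), (nat_lit 1595052)],
  [(nat_lit 1), (nat_lit 3), (nat_lit 9), (nat_lit 2187), (nat_lit 8857), (nat_lit 243), (nat_lit 729), (nat_lit 27), (nat_lit 6561), (nat_lit 19683), (nat_lit 59049), (nat_lit 177147), (nat_lit 531441), (nat_lit 1603099)],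
  [(nat_lit 1), (nat_lit 3), (nat_lit 9), (nat_lit 27), (nat_lit 81), (nat_lit 243), (nat_lit 729), (nat_lit 2214), (nat_lit 6670), (nat_lit 19683), (nat_lit 59049), (nat_lit 177147), (nat_lit 531441), (nat_lit 1594432)],
  [(nat_lit 1), (nat_lit 3), (nat_lit 9), (nat_lit 27), (nat_lit 81), (nat_lit 243), (nat_lit 729), (nat_lit 2187), (nat_lit 6561), (nat_lit 19683), (nat_lit 59049), (nat_lit 177157), (nat_lit 531445), (nat_lit 1594323)],
  [(nat_lit 1), (nat_lit 3), (nat_lit 9), (nat_lit 27), (nat_lit 81), (nat_lit 243), (nat_lit 729), (nat_lit 2187), (nat_lit 6561), (nat_lit 19683), (nat_lit 59049), (nat_lit 177156), (nat_lit 531445), (nat_lit 1594332)],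
  [(nat_lit 1), (nat_lit 3), (nat_lit 9), (nat_lit 27), (nat_lit 81), (nat_lit 243), (nat_lit 729), (nat_lit 2467), (nat_lit 7653), (nat_lit 20775), (nat_lit 59329), (nat_lit 177427), (nat_lit 532254), (nat_lit 1595136)],
  [(nat_lit 1), (nat_lit 591229), (nat_lit 197076), (nat_lit 27), (nat_lit 81), (nat_lit 591475), (nat_lit 787563), (nat_lit 2187), (nat_lit 6561), (nat_lit 768609), (nat_lit 256134), (nat_lit 768378), (nat_lit 728526), (nat_lit 1791408)]]
theorem rN4_ok0 : repOK F.eqOK YN4 (nat_lit 3) (nat_lit 13) (nat_lit 14) ((kz4).take 5) ((rN4_T).take 5) = true := by decide +kernel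
theorem rN4_ok1 : repOK F.eqOK YN4 (nat_lit 3) (nat_lit 13) (nat_lit 14) ((kz4).drop 5) ((rN4_T).drop 5) = true := by decide +kernel
theorem rN4_ok : repOK F.eqOK YN4 (nat_lit 3) (nat_lit 13) (nat_lit 14) kz4 rN4_T = true :=
  (repOK_split 5 rN4_ok0 rN4_ok1)
noncomputable def d4_1 : W := (tw [(nat_lit 501), (nat_lit 248)])
noncomputable def d4_6 : W := (tw [(nat_lit 360), (nat_lit 302757)])
noncomputable def d4_7 : W := (tw [(nat_lit 360), (nat_lit 305343)])
noncomputable def d4_2 : W := (tw [(nat_lit 360), (nat_lit 93113), (nat_lit 169), (nat_lit 74703)])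
noncomputable def d4_4 : W := (tw [(nat_lit 1226), (nat_lit 39256), (nat_lit 81295), (nat_lit 646)])
noncomputable def Yd4 : List W := [wone, d4_1, d4_2, .inv d4_2, d4_4, .inv d4_4, d4_6, d4_7]
theorem d4_pres : subOK F.eqOK YN4 (presL Mult.U43.iv Mult.U43.relq Yd4) (nat_lit 3) (nat_lit 14) (presL Mult.U43.iv Mult.U43.relq Yd4).length [(nat_lit 0), (nat_lit 0), (nat_lit 0), (nat_lit 0), (nat_lit 0), (nat_lit 0), (nat_lit 0), (nat_lit 0), (nat_lit 0), (nat_lit 3368008), (nat_lit 1), (nat_lit 8776), (nat_lit 1), (nat_lit 538006), (nat_lit 3433926), (nat_lit 197077), (nat_lit 1), (nat_lit 0), (nat_lit 6670), (nat_lit 1840090), (nat_lit 243604), (nat_lit 2295), (nat_lit 1616557), (nat_lit 1674030), (nat_lit 9490), (nat_lit 1833475), (nat_lit 2268), (nat_lit 3925947), (nat_lit 3375390), (nat_lit 0), (nat_lit 8776), (nat_lit 0), (nat_lit 8856), (nat_lit 3786439), (nat_lit 0)] = true := by decide +kernel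
noncomputable def Yc4 : List W := .mul (.mul (.mul oz1 w4) (.inv oz1)) w4 :: Yd4.map fun t => .mul (.mul (.mul t w4) (.inv t)) (.inv w4)
theorem d4_com : subOK F.eqOK YQ4 Yc4 (nat_lit 2) (nat_lit 13) Yc4.length [(nat_lit 1083), (nat_lit 0), (nat_lit 4234), (nat_lit 0), (nat_lit 0), (nat_lit 4930), (nat_lit 6978), (nat_lit 2874), (nat_lit 281)] = true := by decide +kernel
theorem d4_gen : F.genOK [z4] (oz1 :: YN4 ++ Yd4) = true := by decide +kernel
theorem d4_ev : evenOK 306936 (oz1 :: YN4 ++ Yd4) = true := by decide +kernel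
noncomputable def s74 : W := .pow (.mul (.l 6) (.l 4)) 2
theorem s74_ord : F.oneOK (.pow (sub Yd4 s74) 7) = true := by decide +kernel
theorem s74_ne : F.neOK (sub Yd4 s74) wone (nat_lit 34) = true := by decide +kernel

end Cfsg.Lib.Fi.M24
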