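import Cfsg.Agent.Lib.Fi.Hs
import Cfsg.Agent.Lib.Fi.NPair

/-!
# Local subgroups in a model given by its operations
-/

set_option autoImplicit false

namespace Cfsg.Lib.Fi

open Cfsg.Lib.Calc Subgroup Cfsg.Lib.ThreeTr Cfsg.Lib.Calc.TM

variable {G : Type*} [Group G] {n : ℕ}

namespace GD

variable (F : GD n)

/-- The points `ss` lie in the mask `C`, and the group they generate moves them over all of `C`. -/
noncomputable def spanOK (C : ℕ) (ss : List ℕ) (r : ℕ) : Bool :=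
  forceB C fun C => band (allL ss (bit C)) (F.coverOK (pws ss) r ss C)

/-- The relations of a symmetric group. -/
noncomputable def coxOK (ss : List ℕ) (k : ℕ) : Bool :=
  band (allL ss fun a => blt a n) (band (Nat.beq ss.length k) (allLt k fun j => forceB (nth ss j) fun b => allLt j fun i =>
    forceB (nth ss i) fun a => Nat.beq (F.pt a b) (cnd (Nat.beq (Nat.succ i) j) (F.pt b a) b)))

/-- The data of the normalizer of a subgroup of prime order. -/
noncomputable def npOK (x f : W) (p m a : ℕ) (ss : List ℕ) (t : ℕ) : Bool :=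
  band (band (band (F.oneOK (.pow x p)) (F.eqOK (.mul f x) (.mul (.pow x a) f))) (band (F.oneOK (.pow f m))
    (allLt m fun j => bor (Nat.beq j (nat_lit 0)) (blt (nat_lit 1) (Nat.mod (Nat.pow a j) p)))))
    (band (band (blt (nat_lit 0) m) (F.genOK (pws ss) [x, f])) (band (F.neOK x wone t) (F.genOK [.l t] (pws ss))))

/-- The points `l` are adjacent to the points `ps` and different from them. -/
noncomputable def nbOK (ps l : List ℕ) : Bool :=
  allL l fun a => band (blt a n) (allL ps fun p => band (Nat.beq (F.pt p a) a) (Bool.rec true false (Nat.beq a p)))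

end GD

/-- The `e`-th power of `t` fixes the point `a`, and `t` does not. -/
noncomputable def GD.npE (F : GD n) (e : ℕ) (t : W) (a : ℕ) : Bool :=
  band (blt a n) (band (Nat.beq (F.pw (pwl t e) true a) a) (Bool.rec true false (Nat.beq (F.pw t true a) a)))

/-- the `k`-th term of `Y` is generated by the maximal clique `l` -/
noncomputable def GD.cljOK (F : GD n) (Y : List W) (k : ℕ) (l cs : List ℕ) : Bool :=
  band (band (subOK F.eqOK Y (pws l) (nat_lit 2) k l.length cs) (FD.inOK (n := n) (bitsM l) (Y.take k)))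
    (band (allL l fun a => blt a n) (FD.subM (n := n) (F.adjL l) (bitsM l)))

variable [NeZero n] {F : GD n} {N : ℕ} {D : Set G} {τ : ℕ → G}

namespace Hs

theorem span (h : Hs F N D τ) {C r : ℕ} {ss : List ℕ} (e : F.spanOK C ss r = true) :
    closure (ms n τ C) = genW τ (pws ss) := by
  rw [GD.spanOK, forceB_eq] at e
  obtain ⟨e1, e2⟩ := band_eq_true.1 e
  refine le_antisymm ((closure_le _).2 fun d hd => ?_) (Calc.genW_le.2 fun t ht => ?_)
  · obtain ⟨q, hq, -, k, hk, rfl⟩ := h.cover (H := genW τ (pws ss)) (fun _ => mem_genW τ) e2 hd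
    exact mul_mem (mul_mem hk (mem_genW τ (mem_pws.2 ⟨q, hq, rfl⟩))) (inv_mem hk)
  · obtain ⟨a, ha, rfl⟩ := mem_pws.1 ht
    exact subset_closure ⟨a, blt_iff.1 (allL_iff.1 (band_eq_true.1 e2).1 a ha), bit_eq C a ▸ allL_iff.1 e1 a ha, rfl⟩

theorem span_fix (h : Hs F N D τ) {x : W} {r : ℕ} {ss : List ℕ} (e : F.spanOK (F.fixM x) ss r = true) :
    closure (D ∩ centralizer (zpowers (x.ev τ) : Set G)) = genW τ (pws ss) := by rw [← h.ms_fixM, h.span e]

theorem symm (h : Hs F N D τ) {ss : List ℕ} {k : ℕ} (e : F.coxOK ss (k + 2) = true)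
    (e' : Nat.beq (nth ss 0) (nth ss (k + 1)) = false) : Nonempty (genW τ (pws ss) ≃* Equiv.Perm (Fin (k + 3))) := by
  obtain ⟨e1, e23⟩ := band_eq_true.1 e
  obtain ⟨e2, e3⟩ := band_eq_true.1 e23
  have e2 := beq_iff.1 e2
  have hl : ∀ i < k + 2, nth ss i < n := fun i hi => blt_iff.1 (allL_iff.1 e1 _ (nth_mem (e2 ▸ hi)))
  simp only [allLt_iff, forceB_eq] at e3
  have c : ∀ a b, b < n → τ a * τ b * τ a = τ (F.pt a b) := fun a b hb => by
    have := h.cj (.l a) hb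
    rwa [W.ev, h.inv] at this
  have A : ThreeTr.CoxA (fun i => τ (nth ss i)) (k + 2) := ⟨fun i _ => h.sq _, fun i hi => by
    have := e3 _ hi i (Nat.lt_succ_self i)
    rw [beq_iff.2 rfl, cnd_true] at this
    rw [c _ _ (hl _ hi), c _ _ (hl _ (by omega)), beq_iff.1 this], fun i j hi hj => by
    have := e3 _ hj i (by omega)
    rw [Bool.eq_false_iff.2 fun a => hi.ne (beq_iff.1 a), cnd_false] at this
    exact ((h.comm_iff (.l _) (hl _ hj)).2 this).symm⟩
  obtain ⟨φ, hφ⟩ := A.exists_hom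
  have hr : φ.range = genW τ (pws ss) := by
    rw [ThreeTr.range_eq_coxSub hφ, genW_pws, ThreeTr.coxSub]
    congr 1; ext g
    exact ⟨by rintro ⟨i, hi, rfl⟩; exact ⟨_, nth_mem (e2 ▸ hi), rfl⟩, by
      rintro ⟨a, ha, rfl⟩; obtain ⟨i, hi, rfl⟩ := exists_nth ha; exact ⟨i, e2 ▸ hi, rfl⟩⟩
  have hne : φ (ThreeTr.adjSwap (k + 2) 0) ≠ φ (ThreeTr.adjSwap (k + 2) (k + 1)) := fun a => by
    rw [hφ _ (by omega), hφ _ (by omega)] at a
    rw [h.inj (hl _ (by omega)) (hl _ (by omega)) a, beq_iff.2 rfl] at e'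
    exact Bool.noConfusion e'
  rw [ThreeTr.adjSwap_eq (by omega), ThreeTr.adjSwap_eq (by omega)] at hne
  have hi : Function.Injective φ := by
    match k, φ, hne with
    | 0, φ, hne => exact ThreeTr.injective_of_perm_three hne
    | 1, φ, hne => exact ThreeTr.injective_of_perm_four hne
    | k + 2, φ, hne =>
      exact ThreeTr.injective_of_perm_five_le (by simp) (Equiv.Perm.swap_isSwap_iff.2 (by simp))
        (Equiv.Perm.swap_isSwap_iff.2 (by simp [Fin.ext_iff])) hne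
  exact ⟨hr ▸ (MonoidHom.ofInjective hi).symm⟩

theorem np (h : Hs F N D τ) {x f : W} {p m a t : ℕ} [Fact p.Prime] {ss : List ℕ} (e : F.npOK x f p m a ss t = true)
    {M : Subgroup G} (h1 : x.ev τ ∈ M) (h2 : f.ev τ ∈ M) (h3 : genW τ (pws ss) ≤ M)
    (hc : Nat.card M ≤ p * m * Nat.card (genW τ (pws ss))) : NP (zpowers (x.ev τ)) (genW τ (pws ss)) M (p * m) := by
  simp only [GD.npOK, band_eq_true, allLt_iff, bor_eq_true, beq_iff, blt_iff] at e
  obtain ⟨⟨⟨e1, e2⟩, e3, e4⟩, ⟨e5, e6⟩, e7, e8⟩ := e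
  have := h.fin
  have k := h.mem_CZ e6
  refine np_of (h.orderOf_eq e1 e7) (h.eq e2) (h.one e3) e5 (fun j hj b => (e4 j hj).resolve_right fun c => c.ne' b)
    (fun y hy => ?_) (fun b => ?_) h1 h2 h3 hc
  · have : ∀ u ∈ [x, f], Commute (u.ev τ) y := fun u hu => by
      have := k u hu
      rw [CZ_eq_centralizer_genW] at this
      exact (this y hy).symm
    exact ⟨this x (by simp), this f (by simp)⟩
  · obtain ⟨e9, e10⟩ := band_eq_true.1 e7
    have := (h.comm_iff x (blt_iff.1 e9)).1 (Fi.mem_CZ.1 (h.genW_le e8 b) _ List.mem_cons_self)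
    rw [show F.pw wone true t = t from rfl, this] at e10
    exact Bool.noConfusion e10

theorem np_ord (h : Hs F N D τ) {x f : W} {p m a t : ℕ} [Fact p.Prime] {ss : List ℕ}
    (e : F.npOK x f p m a ss t = true) : orderOf (x.ev τ) = p := by
  simp only [GD.npOK, band_eq_true] at e
  exact h.orderOf_eq e.1.1.1 e.2.2.1

theorem np_normalizer (h : Hs F N D τ) {x f : W} {p m a t : ℕ} [Fact p.Prime] {ss : List ℕ}
    (e : F.npOK x f p m a ss t = true)
    (hc : Nat.card (normalizer (zpowers (x.ev τ) : Set G)) ≤ p * m * Nat.card (genW τ (pws ss))) :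
    NP (zpowers (x.ev τ)) (genW τ (pws ss)) (normalizer (zpowers (x.ev τ) : Set G)) (p * m) := by
  have := h.fin
  have e' := e
  simp only [GD.npOK, band_eq_true] at e'
  refine h.np e (le_normalizer (mem_zpowers _)) (mem_normalizer_zpowers (h.eq e'.1.1.2)) (fun y hy => ?_) hc
  have := h.mem_CZ e'.2.1.2 x (by simp)
  rw [CZ_eq_centralizer_genW] at this
  exact centralizer_le_normalizer _ (by rw [Core.centralizer_zpowers]; exact mem_centralizer_singleton_iff.2 (this y hy))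

theorem std_cls (h : Hs F N D τ) {p k : ℕ} {R : List W} (c : Cls p (env τ R) k) {X : Subgroup G} (hX : Nat.card X = p) :
    ∃ i < k, ∃ τ', Hs F N D τ' ∧ X = zpowers (env τ' R i) := by
  obtain ⟨i, hi, g, e⟩ := c X hX
  exact ⟨i, hi, _, h.conj g, e.trans (congrArg _ (ev_conj g τ _).symm)⟩

theorem std_one (h : Hs F N D τ) {p : ℕ} {x : W} (c : Cls p (fun _ => x.ev τ) 1) {X : Subgroup G} (hX : Nat.card X = p) :
    ∃ τ', Hs F N D τ' ∧ X = zpowers (x.ev τ') := by
  obtain ⟨i, hi, g, e⟩ := c X hX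
  exact ⟨_, h.conj g, e.trans (congrArg _ (ev_conj g τ _).symm)⟩

theorem card_c (h : Hs F N D τ) {x : W} {ls : List Lev} (e : F.certOK ls [x] = true) :
    Nat.card (centralizer ({x.ev τ} : Set G)) = levOrd ls := by rw [← CZ_one, (h.cert e).card]

end Hs

theorem Hs.nb (h : Hs F N D τ) {ps l : List ℕ} (e : F.nbOK ps l = true) {p : ℕ} (hp : p ∈ ps) (hn : p < n) {a : ℕ}
    (ha : a ∈ l) : τ a ∈ Dx D (τ p) := by
  obtain ⟨e1, e2⟩ := band_eq_true.1 (allL_iff.1 e a ha)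
  obtain ⟨e2, e3⟩ := band_eq_true.1 (allL_iff.1 e2 p hp)
  have e1 := blt_iff.1 e1
  refine ⟨h.mem e1, fun x => ?_, ((h.comm_iff (.l p) e1).2 e2).symm⟩
  rw [h.inj e1 hn x, beq_iff.2 rfl] at e3
  exact Bool.noConfusion e3

theorem Hs.loc1 (h : Hs F N D τ) (hD : IsThreeTranspositionGroup D) {p m : ℕ} (hp : p < n) {ks ks' : List W}
    (C : Cert τ [.l p] ks m) (e1 : FD.inOK (n := n) (F.adjL [p]) ks = true) {l l' : List ℕ}
    (e2 : F.nbOK [p] l = true) (e3 : F.eqOK (.l p) (tw l) = true) (e4 : F.nbOK [p] l' = true)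
    (C' : Cert τ (pws l') ks' 2) : Loc1 D (τ p) := by
  have := h.fin
  refine ⟨hD, h.mem hp, le_antisymm ?_ fun x hx => mem_centralizer_singleton_iff.2 (commute_of_mem_HH hx).symm,
    fun x hx => eq_of_card_two C'.card (Fi.mem_CZ.2 fun t ht => ?_) (TS.ne_one hD.1 (h.mem hp))
      (Fi.mem_CZ.2 fun t ht => ?_)⟩
  · refine ((CZ_one τ (.l p)).symm.trans C.gen).le.trans ((genW_le_ms e1).trans ((closure_le _).2 fun y hy => ?_))
    obtain ⟨h1, h2⟩ := (h.mem_adjL _).1 hy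
    by_cases a : y = τ p
    · rw [a]
      have : (tw l).ev τ ∈ HH D (τ p) := by
        rw [ev_tw]
        refine list_prod_mem fun x hx => ?_
        obtain ⟨a, ha, rfl⟩ := List.mem_map.1 hx
        exact subset_closure (h.nb e2 List.mem_cons_self hp ha)
      rwa [← h.eq e3] at this
    · exact subset_closure ⟨h1, a, (h2 p List.mem_cons_self).symm⟩
  · obtain ⟨a, ha, rfl⟩ := mem_pws.1 ht
    exact (h.nb e4 List.mem_cons_self hp ha).2.2.symm
  · obtain ⟨a, ha, rfl⟩ := mem_pws.1 ht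
    exact (hx _ (h.nb e4 List.mem_cons_self hp ha)).symm

/-- An element of order `p` fixes a transposition if `p` does not divide their number. -/
theorem Hs.exists_comm (h : Hs F N D τ) {p : ℕ} [Fact p.Prime] (hn : ¬p ∣ n) {y : G} (hy : y ^ p = 1) :
    ∃ d ∈ D, Commute y d := by
  have h' := h
  obtain ⟨_, M, -⟩ := h
  have hp : IsPGroup p (zpowers y) := by
    rintro ⟨_, m, rfl⟩
    exact ⟨1, Subtype.ext (by change (y ^ m) ^ p ^ 1 = 1; rw [pow_one, ← zpow_natCast, ← zpow_mul, mul_comm,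
      zpow_mul, zpow_natCast, hy, one_zpow])⟩
  obtain ⟨x, hx⟩ := hp.nonempty_fixed_point_of_prime_not_dvd_card (Fin n) (by rwa [Nat.card_fin])
  exact ⟨_, h'.mem x.2, (M.comm_iff.2 (hx ⟨y, mem_zpowers y⟩)).symm⟩

theorem Hs.fp_conj (h : Hs F N D τ) {m : ℕ} {l : List G} {x : G} (hx : FP D m l x) (g : G) :
    FP D m (l.map (MulAut.conj g)) (g * x * g⁻¹) := by
  obtain ⟨h1, h2, h3, h4, rfl⟩ := hx
  refine ⟨h1.map (MulAut.conj g).injective, by simpa, fun a ha => ?_, fun a ha b hb => ?_,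
    (map_list_prod (MulAut.conj g) l).symm⟩
  · obtain ⟨a, ha', rfl⟩ := List.mem_map.1 ha; exact h.conj_mem g (h3 a ha')
  · obtain ⟨a, ha', rfl⟩ := List.mem_map.1 ha
    obtain ⟨b, hb', rfl⟩ := List.mem_map.1 hb
    exact (h4 a ha' b hb').map _

theorem Hs.conj_mem_fp (h : Hs F N D τ) {m : ℕ} (U : Uniq D m) {l : List G} {x : G} (hx : FP D m l x) {c : G}
    (hc : c ∈ centralizer {x}) {a : G} (ha : a ∈ l) : c * a * c⁻¹ ∈ l := by
  have := h.fp_conj hx c
  rw [mem_centralizer_singleton_iff.1 hc, mul_inv_cancel_right] at this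
  exact (U _ _ _ this hx _).1 (List.mem_map_of_mem ha)

theorem Hs.exists_perm (h : Hs F N D τ) {q : List (ℕ × List W × ℕ)} (e : F.stdOK q = true) {l : List G} {x : G}
    (hx : FP D q.length l x) (σ : Equiv.Perm {a | a ∈ l}) :
    ∃ c ∈ centralizer {x}, ∀ s : {a | a ∈ l}, (σ s : G) = c * s * c⁻¹ := by
  have p : l.Perm (l.attach.map fun a => (σ a : G)) := by
    refine (List.perm_ext_iff_of_nodup hx.1 ((List.nodup_attach.2 hx.1).map fun a b e =>
      σ.injective (Subtype.ext e))).2 fun a => ⟨fun ha => List.mem_map.2 ⟨σ.symm ⟨a, ha⟩, List.mem_attach _ _, by simp⟩, ?_⟩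
    intro ha
    obtain ⟨b, -, rfl⟩ := List.mem_map.1 ha
    exact (σ b).2
  have hx' := hx.perm p
  obtain ⟨g, hg⟩ := h.std e hx.1 hx.2.1 hx.2.2.1 hx.2.2.2.1
  obtain ⟨g', hg'⟩ := h.std e hx'.1 hx'.2.1 hx'.2.2.1 hx'.2.2.2.1
  have k : l.map (MulAut.conj (g' * g⁻¹)) = l.attach.map fun a => (σ a : G) := by
    rw [← hg', ← congrArg (List.map (MulAut.conj (g' * g⁻¹))) hg, List.map_map]
    exact List.map_congr_left fun a _ => by simp [mul_assoc]
  refine ⟨g' * g⁻¹, mem_centralizer_singleton_iff.2 (mul_inv_eq_iff_eq_mul.1 ?_), fun s => ?_⟩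
  · rw [← (h.fp_conj hx _).2.2.2.2, k, hx'.2.2.2.2]
  · rw [← List.attach_map_val] at k
    exact (List.map_inj_left.1 k s (List.mem_attach _ _)).symm

theorem Hs.quot_fp (h : Hs F N D τ) {q : List (ℕ × List W × ℕ)} (e : F.stdOK q = true) {k : ℕ} (hk : q.length = k + 1)
    (U : Uniq D q.length) {l : List G} {x : G} (hx : FP D q.length l x) :
    ∃ _ : ((centralizer {a | a ∈ l}).subgroupOf (centralizer {x})).Normal,
      Nonempty (centralizer {x} ⧸ (centralizer {a | a ∈ l}).subgroupOf (centralizer {x}) ≃* Equiv.Perm (Fin (k + 1))) := by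
  classical
  refine quot_perm ?_ (fun c hc s => h.conj_mem_fp U hx hc) (h.exists_perm e hx)
  rw [← List.coe_toFinset, Nat.card_coe_set_eq, Set.ncard_coe_finset, List.toFinset_card_of_nodup hx.1, hx.2.1, hk]

theorem Hs.index_two (h : Hs F N D τ) {p q : ℕ × List W × ℕ} (e : F.stdOK [q, p] = true) (U : Uniq D 2) {a b : G}
    (ha : a ∈ D) (hb : b ∈ D) (hne : a ≠ b) (hc : Commute a b) : centralizer {a, b} ≤ centralizer {a * b} ∧
      ((centralizer {a, b}).subgroupOf (centralizer {a * b})).index = 2 := by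
  have f := fp_two ha hb hne hc
  have e1 : {x | x ∈ [a, b]} = {a, b} := by ext; simp
  obtain ⟨_, ⟨φ⟩⟩ := h.quot_fp e (k := 1) rfl U f
  rw [← e1]
  exact ⟨f.le, (Nat.card_congr φ.toEquiv).trans (by rw [Nat.card_perm, Nat.card_fin]; rfl)⟩

theorem Hs.conj_pair (h : Hs F N D τ) {p q : ℕ × List W × ℕ} (e : F.stdOK [q, p] = true) {a b a' b' : G}
    (ha : a ∈ D) (hb : b ∈ D) (hne : a ≠ b) (hc : Commute a b) (ha' : a' ∈ D) (hb' : b' ∈ D) (hne' : a' ≠ b')
    (hc' : Commute a' b') : ∃ g : G, g * a * g⁻¹ = a' ∧ g * b * g⁻¹ = b' := by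
  obtain ⟨g, e1⟩ := h.std e (l := [a, b]) (by simpa) rfl (by simp [ha, hb]) (by simp [hc, hc.symm])
  obtain ⟨g', e2⟩ := h.std e (l := [a', b']) (by simpa) rfl (by simp [ha', hb']) (by simp [hc', hc'.symm])
  simp only [List.map_cons, List.map_nil, List.cons.injEq] at e1 e2
  exact ⟨g' * g⁻¹, by rw [← e1.1, ← e2.1]; group, by rw [← e1.2.1, ← e2.2.1]; group⟩

theorem Hs.conj_npair (h : Hs F N D τ) {p : ℕ × List W × ℕ} (e : F.stdOK [p] = true) {q r : ℕ} {ks : List W}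
    (e1 : F.genOK [.l p.1] ks = true) (e2 : F.coverOK ks r [q] (Nat.xor (F.adjL [p.1]) (msk n)) = true) {a b a' b' : G}
    (ha : a ∈ D) (hb : b ∈ D) (hc : ¬Commute a b) (ha' : a' ∈ D) (hb' : b' ∈ D) (hc' : ¬Commute a' b') :
    ∃ g : G, g * a * g⁻¹ = a' ∧ g * b * g⁻¹ = b' := by
  have k : ∀ {a b : G}, a ∈ D → b ∈ D → ¬Commute a b → ∃ g : G, g * τ p.1 * g⁻¹ = a ∧ g * τ q * g⁻¹ = b := by
    intro a b ha hb hc
    obtain ⟨g, rfl⟩ := isConj_iff.1 (h.isConj_of_mem e ha)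
    have h' := h.conj g
    obtain ⟨x, hx, -, c, h1, h2⟩ := h'.cover (h'.mem_CZ e1) e2 (h'.mem_compl.2 ⟨hb, fun x =>
      hc (((h'.mem_adjL _).1 x).2 _ List.mem_cons_self).symm⟩)
    have : g * τ p.1 * g⁻¹ * c = c * (g * τ p.1 * g⁻¹) := Fi.mem_CZ.1 h1 _ List.mem_cons_self
    exact ⟨c * g, by rw [← mul_inv_eq_iff_eq_mul.2 this.symm]; group, by rw [← h2, List.mem_singleton.1 hx]; group⟩
  obtain ⟨g, a1, a2⟩ := k ha hb hc
  obtain ⟨g', b1, b2⟩ := k ha' hb' hc'
  exact ⟨g' * g⁻¹, by rw [← a1, ← b1]; group, by rw [← a2, ← b2]; group⟩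

section

variable {p : ℕ}

theorem Hs.notP (h : Hs F N D τ) {e : ℕ} (he : e.Coprime p) : NotP τ p (F.npE e) := fun t a H j hj => by
  have := h.fin
  simp only [GD.npE, band_eq_true, blt_iff] at H
  have h1 := (h.comm_iff _ H.1).2 H.2.1
  rw [ev_pwl] at h1
  have := H.2.2
  rw [(h.comm_iff _ H.1).1 (commute_of_pow he hj h1)] at this
  exact Bool.noConfusion this

theorem Hs.nrm3 (h : Hs F N D τ) {x f : W} {ks : List W} {m : ℕ} (C : Cert τ [x] ks m) (hx : orderOf (x.ev τ) = 3)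
    (e : F.eqOK (.mul f x) (.mul (.pow x 2) f) = true) :
    normalizer (zpowers (x.ev τ) : Set G) = genW τ (f :: ks) ∧
      Nat.card (normalizer (zpowers (x.ev τ) : Set G)) = 2 * m := by
  have := h.fin
  have := normalizer_three hx (h.eq e)
  rwa [← CZ_one, C.card, C.gen, ← genW_cons] at this

/-- Classes of subgroups of prime order told apart by their width. -/
theorem Hs.cls_width (h : Hs F N D τ) {R : List W} {k : ℕ} (c : Cls p (env τ R) k) {w : Fin k → ℕ}
    (hw : ∀ τ', Hs F N D τ' → ∀ i : Fin k,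
      commutingWidth (D ∩ centralizer (zpowers (env τ' R i) : Set G)) = w i) (hi : Function.Injective w)
    (ho : ∀ i : Fin k, orderOf (env τ R i) = p) : ∃ Y : Fin k → Subgroup G, (∀ i, Nat.card (Y i) = p) ∧
      (∀ i j, (∃ g : G, (Y i).map (MulAut.conj g).toMonoidHom = Y j) → i = j) ∧
      (∀ X : Subgroup G, Nat.card X = p → ∃ i, ∃ g : G, X.map (MulAut.conj g).toMonoidHom = Y i) ∧
      ∀ i, commutingWidth (D ∩ centralizer (Y i : Set G)) = w i := by
  refine ⟨fun i => zpowers (env τ R i), fun i => by rw [Nat.card_zpowers, ho], fun i j ⟨g, e⟩ => hi ?_,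
    fun X hX => ?_, hw τ h⟩
  · rw [← hw _ (h.conj g) i, ← hw τ h j, env, ev_conj, ← map_conj_zpowers]
    exact congrArg (fun X : Subgroup G => commutingWidth (D ∩ centralizer (X : Set G))) e
  · obtain ⟨i, hi, g, e⟩ := c.conj X hX
    exact ⟨⟨i, hi⟩, g, e⟩

theorem Hs.std_sylow (h : Hs F N D τ) [Fact p.Prime] {Y : List W} {k m : ℕ} (P : PCC (env τ Y) p k)
    (hN : N = p ^ k * m) (hm : ¬p ∣ m) (S : Sylow p G) : ∃ τ', Hs F N D τ' ∧ (S : Subgroup G) = lev (env τ' Y) k := by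
  have := h.fin
  obtain ⟨S', hS⟩ := exists_sylow_eq (P.card_eq le_rfl) (h.card.trans hN) hm
  obtain ⟨g, rfl⟩ := MulAction.exists_smul_eq G S' S
  refine ⟨_, h.conj g, ?_⟩
  rw [Sylow.coe_subgroup_smul, hS, lev_conj]
  rfl

end

theorem Hs.npr (h : Hs F N D τ) (hD : IsThreeTranspositionGroup D) {p q : ℕ} (e0 : F.coxOK [p, q] 2 = true)
    (e0' : Nat.beq (F.pt p q) q = false) {ks ks' : List W} {m : ℕ} (C : Cert τ [.l p, .l q] ks m)
    (e1 : FD.inOK (n := n) (F.adjL [p, q]) ks = true)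
    (e2 : FD.subM (n := n) (F.fixM (tw [p, q])) (F.adjL [p]) = true) {l : List ℕ} (e3 : F.nbOK [p, q] l = true)
    (C' : Cert τ (pws l) ks' 6) : NPr D (τ p) (τ q) := by
  have := h.fin
  have hp : p < n ∧ q < n := by
    have := e0; simp only [GD.coxOK, band_eq_true, allL_iff, blt_iff] at this
    exact ⟨this.1 p (by simp), this.1 q (by simp)⟩
  have nc : ¬Commute (τ p) (τ q) := fun c => by
    have := (h.comm_iff (.l p) hp.2).1 c.symm
    rw [show F.pw (.l p) true q = F.pt p q from rfl, e0'] at this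
    exact Bool.noConfusion this
  have sym : Nonempty (closure ({τ p, τ q} : Set G) ≃* Equiv.Perm (Fin 3)) := by
    have := h.symm (k := 0) e0 (Bool.eq_false_iff.2 fun e => nc (by
      rw [show p = q from Nat.eq_of_beq_eq_true e]))
    rwa [genW_pws, show τ '' {a | a ∈ [p, q]} = {τ p, τ q} by ext; simp [eq_comm]] at this
  have le : LL D (τ p) (τ q) ≤ centralizer {τ p, τ q} := (closure_le _).2 fun y hy => by
    rintro z (rfl | rfl)
    exacts [hy.1.2.2, hy.2.2.2]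
  have cen : centralizer {τ p, τ q} = LL D (τ p) (τ q) := by
    refine le_antisymm ?_ le
    have := CZ_two τ (.l p) (.l q) ▸ C.gen
    refine (le_of_eq this).trans ((genW_le_ms e1).trans (closure_mono fun y hy => ?_))
    obtain ⟨h1, h2⟩ := (h.mem_adjL _).1 hy
    have h3 := h2 p (by simp)
    have h4 := h2 q (by simp)
    exact ⟨⟨h1, fun e => nc (e ▸ h4), h3.symm⟩, h1, fun e => nc (e ▸ h3).symm, h4.symm⟩
  refine ⟨hD, h.mem hp.1, h.mem hp.2, nc, cen, fun y hy hc => ?_, ?_, sym⟩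
  · obtain ⟨b, hb, rfl⟩ := h.ex hy
    exact (h.adjL_iff _ hb).1 (of_subM e2 ⟨b, hb⟩ ((h.fixM_iff _ hb).2 (by simpa [ev_tw] using hc))) p (by simp)
  · symm
    refine eq_of_le_of_card_ge (le_centralizer_iff.1 (le.trans (by rw [centralizer_closure]))) ?_
    rw [card_of_perm sym, show Nat.factorial 3 = 6 from rfl, ← C'.card, CZ_eq_centralizer_genW]
    refine card_le_of_le (centralizer_le ?_)
    rw [genW_pws]
    refine closure_mono ?_
    rintro _ ⟨a, ha, rfl⟩
    exact ⟨h.nb e3 (by simp) hp.1 ha, h.nb e3 (by simp) hp.2 ha⟩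

/-- Transitivity of a centralizer on the non-commuting pairs of transpositions in it. -/
theorem Hs.npair_in (h : Hs F N D τ) {l : List ℕ} {b c r r' : ℕ} {ks ks' : List W}
    (e1 : F.genOK (pws l) ks = true) (e2 : F.coverOK ks r [b] (F.adjL l) = true)
    (e3 : F.genOK (pws (b :: l)) ks' = true)
    (e4 : F.coverOK ks' r' [c] (Nat.land (F.adjL l) (Nat.xor (F.adjL [b]) (msk n))) = true) {x y : G}
    (hx : x ∈ ms n τ (F.adjL l)) (hy : y ∈ ms n τ (F.adjL l)) (hc : ¬Commute y x) :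
    ∃ k ∈ CZ τ (pws l), k * τ b * k⁻¹ = x ∧ k * τ c * k⁻¹ = y := by
  obtain ⟨b, h1, -, k, hk, rfl⟩ := h.cover (h.mem_CZ e1) e2 hx
  obtain rfl := List.mem_singleton.1 h1
  rw [h.mem_adjL] at hy
  have : k⁻¹ * y * k⁻¹⁻¹ ∈ ms n τ (Nat.land (F.adjL l) (Nat.xor (F.adjL [b]) (msk n))) := by
    have hD := h.conj_mem k⁻¹ hy.1
    rw [h.mem_land, h.mem_compl, h.mem_adjL, h.mem_adjL]
    refine ⟨⟨hD, fun a ha => ?_⟩, hD, fun c => hc ?_⟩
    · have h2 : Commute (τ a) k := Fi.mem_CZ.1 hk (.l a) (mem_pws.2 ⟨a, ha, rfl⟩)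
      exact (h2.symm.inv_left.mul_left (hy.2 a ha)).mul_left h2.symm.inv_left.inv_left
    · simpa [mul_assoc] using (c.2 _ (List.mem_singleton_self _)).map (MulAut.conj k)
  obtain ⟨_, h1, -, k', hk', e⟩ := h.cover (h.mem_CZ e3) e4 this
  obtain rfl := List.mem_singleton.1 h1
  rw [Fi.mem_CZ] at hk'
  refine ⟨k * k', mul_mem hk (Fi.mem_CZ.2 fun t ht => hk' t (List.mem_cons_of_mem _ ht)), ?_, ?_⟩
  · have := hk' _ (List.mem_cons_self ..)
    rw [mul_assoc k k', show k' * τ _ = τ _ * k' from this.symm]; group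
  · rw [mul_inv_rev, show ∀ t, k * k' * t * (k'⁻¹ * k⁻¹) = k * (k' * t * k'⁻¹) * k⁻¹ from fun t => by group, e]; group

theorem Hs.clj (h : Hs F N D τ) (hD : IsThreeTranspositionSet D)
    {Y : List W} {k : ℕ} {l cs : List ℕ} (e : F.cljOK Y k l cs = true) {T : Subgroup G} (hT : IsPGroup 2 T)
    (hl : lev (env τ Y) k ≤ T) : closure {x | x ∈ D ∧ x ∈ T} = lev (env τ Y) k := by
  simp only [GD.cljOK, band_eq_true, allL_iff, blt_iff] at e
  obtain ⟨⟨e1, e2⟩, e3, e4⟩ := e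
  have h1 : ∀ a ∈ l, τ a ∈ lev (env τ Y) k := fun a ha => lev_le_of_subOK h.snd e1 (by
    rw [lev_env, List.take_of_length_le (by simp [pws_eq])]; exact genW_le_iff.1 le_rfl (.l a) (mem_pws.2 ⟨a, ha, rfl⟩))
  refine le_antisymm ((closure_le _).2 fun x hx => ?_) (lev_env τ Y k ▸ (genW_le_ms e2).trans (closure_mono fun x hx => ?_))
  · obtain ⟨a, ha, b, rfl⟩ := (h.mem_adjL l).2 ⟨hx.1, fun b hb =>
      commute_of_two hD hT hx.1 (h.mem (e3 b hb)) hx.2 (hl (h1 b hb))⟩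
    obtain ⟨c, hc, e⟩ := (h.mem_bitsM e3).1 ((h.mem_ms ha).2 (of_subM e4 ⟨a, ha⟩ b))
    exact e ▸ h1 c hc
  · obtain ⟨c, hc, rfl⟩ := (h.mem_bitsM e3).1 hx
    exact ⟨h.mem (e3 c hc), hl (h1 c hc)⟩

theorem Hs.sep (h : Hs F N D τ) {f : ℕ → W} {bs cs : List ℕ}
    (e : leq (bs.map fun b => F.cnt (F.fixM (f b))) cs = true) (hc : cs.Nodup) :
    ∀ b ∈ bs, ∀ b' ∈ bs, ∀ g : G, zpowers (g * (f b).ev τ * g⁻¹) = zpowers ((f b').ev τ) → b = b' := fun b hb b' hb' g k =>
  List.inj_on_of_nodup_map (f := fun b => F.cnt (F.fixM (f b))) (eq_of_leq e ▸ hc) hb hb' (by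
    rw [h.cnt_fixM, h.cnt_fixM, h.ncard_comm (isConj_iff.2 ⟨g, rfl⟩)]
    congr 1
    ext a
    refine and_congr_right fun _ => ⟨fun c => ?_, fun c => ?_⟩
    · obtain ⟨j, e⟩ := k.ge (mem_zpowers _); exact e ▸ c.zpow_right j
    · obtain ⟨j, e⟩ := k.le (mem_zpowers _); exact e ▸ c.zpow_right j)

end Cfsg.Lib.Fi
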