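import Cfsg.Agent.Lib.Fi.M22

set_option autoImplicit false
set_option maxRecDepth 1000000
set_option maxHeartbeats 0

namespace Cfsg.Lib.Fi.M22

open Cfsg.Lib.Calc

noncomputable def Y2 : List W := [
  (.pow (tw [(nat_lit 47), (nat_lit 2692)]) (nat_lit 1)),
  (.pow (tw [(nat_lit 155), (nat_lit 434)]) (nat_lit 1)),
  (.pow (tw [(nat_lit 47), (nat_lit 155), (nat_lit 637)]) (nat_lit 1)),
  (.pow (tw [(nat_lit 0), (nat_lit 2609)]) (nat_lit 1)),
  (.pow (tw [(nat_lit 47), (nat_lit 637), (nat_lit 1779)]) (nat_lit 1)),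
  (.pow (tw [(nat_lit 0), (nat_lit 154)]) (nat_lit 1)),
  (.pow (tw [(nat_lit 637), (nat_lit 2692)]) (nat_lit 1)),
  (.pow (tw [(nat_lit 0), (nat_lit 3400)]) (nat_lit 1)),
  (.pow (tw [(nat_lit 0), (nat_lit 1710)]) (nat_lit 1)),
  (.l (nat_lit 0)),
  (.pow (tw [(nat_lit 3130), (nat_lit 3143)]) (nat_lit 1)),
  (.pow (tw [(nat_lit 264), (nat_lit 1489), (nat_lit 968), (nat_lit 1229), (nat_lit 795), (nat_lit 2438)]) (nat_lit 1)),
  (.pow (tw [(nat_lit 3189), (nat_lit 3210), (nat_lit 70), (nat_lit 539)]) (nat_lit 1)),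
  (.pow (tw [(nat_lit 877), (nat_lit 986), (nat_lit 955)]) (nat_lit 1)),
  (.pow (tw [(nat_lit 2609), (nat_lit 1743), (nat_lit 3295), (nat_lit 1612), (nat_lit 1849), (nat_lit 2852), (nat_lit 2436)]) (nat_lit 1)),
  (.pow (tw [(nat_lit 329), (nat_lit 2166), (nat_lit 2903), (nat_lit 828), (nat_lit 3400)]) (nat_lit 1)),
  (.pow (tw [(nat_lit 1556), (nat_lit 772), (nat_lit 1547), (nat_lit 2329), (nat_lit 956), (nat_lit 1454), (nat_lit 1451)]) (nat_lit 1)),
  (.pow (tw [(nat_lit 3132), (nat_lit 2571), (nat_lit 3142), (nat_lit 2369), (nat_lit 2564), (nat_lit 3510)]) (nat_lit 1)),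
  (.pow (tw [(nat_lit 2197), (nat_lit 2883), (nat_lit 2999), (nat_lit 2703), (nat_lit 3047), (nat_lit 569), (nat_lit 3510)]) (nat_lit 1)),
  (.pow (tw [(nat_lit 969), (nat_lit 634), (nat_lit 1455), (nat_lit 751), (nat_lit 2355), (nat_lit 876), (nat_lit 1608), (nat_lit 3510)]) (nat_lit 1))]
def p2_T : List (List ℕ) := [[(nat_lit 0)],
  [(nat_lit 0), (nat_lit 0)],
  [(nat_lit 0), (nat_lit 0), (nat_lit 0)],
  [(nat_lit 0), (nat_lit 0), (nat_lit 0), (nat_lit 0)],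
  [(nat_lit 0), (nat_lit 0), (nat_lit 0), (nat_lit 0), (nat_lit 0)],
  [(nat_lit 0), (nat_lit 0), (nat_lit 0), (nat_lit 0), (nat_lit 0), (nat_lit 0)],
  [(nat_lit 0), (nat_lit 0), (nat_lit 0), (nat_lit 0), (nat_lit 0), (nat_lit 0), (nat_lit 0)],
  [(nat_lit 0), (nat_lit 0), (nat_lit 0), (nat_lit 0), (nat_lit 0), (nat_lit 0), (nat_lit 0), (nat_lit 0)],
  [(nat_lit 0), (nat_lit 0), (nat_lit 0), (nat_lit 0), (nat_lit 0), (nat_lit 0), (nat_lit 0), (nat_lit 0), (nat_lit 0)],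
  [(nat_lit 0), (nat_lit 0), (nat_lit 0), (nat_lit 0), (nat_lit 0), (nat_lit 0), (nat_lit 0), (nat_lit 0), (nat_lit 0), (nat_lit 0)],
  [(nat_lit 0), (nat_lit 0), (nat_lit 0), (nat_lit 0), (nat_lit 0), (nat_lit 1), (nat_lit 0), (nat_lit 2), (nat_lit 4), (nat_lit 8), (nat_lit 0)],
  [(nat_lit 0), (nat_lit 0), (nat_lit 0), (nat_lit 1), (nat_lit 0), (nat_lit 1), (nat_lit 0), (nat_lit 4), (nat_lit 20), (nat_lit 41), (nat_lit 2), (nat_lit 4)],
  [(nat_lit 0), (nat_lit 0), (nat_lit 1), (nat_lit 1), (nat_lit 0), (nat_lit 0), (nat_lit 3), (nat_lit 13), (nat_lit 32), (nat_lit 32), (nat_lit 3), (nat_lit 8), (nat_lit 13)],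
  [(nat_lit 0), (nat_lit 1), (nat_lit 0), (nat_lit 0), (nat_lit 1), (nat_lit 1), (nat_lit 23), (nat_lit 46), (nat_lit 8), (nat_lit 8), (nat_lit 11), (nat_lit 2), (nat_lit 2), (nat_lit 38)],
  [(nat_lit 0), (nat_lit 0), (nat_lit 1), (nat_lit 2), (nat_lit 0), (nat_lit 6), (nat_lit 3), (nat_lit 8), (nat_lit 118), (nat_lit 128), (nat_lit 9), (nat_lit 32), (nat_lit 1060), (nat_lit 2049), (nat_lit 1158)],
  [(nat_lit 0), (nat_lit 0), (nat_lit 3), (nat_lit 2), (nat_lit 1), (nat_lit 13), (nat_lit 1), (nat_lit 8), (nat_lit 176), (nat_lit 128), (nat_lit 11), (nat_lit 1069), (nat_lit 41), (nat_lit 4097), (nat_lit 0), (nat_lit 1158)],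
  [(nat_lit 0), (nat_lit 0), (nat_lit 1), (nat_lit 5), (nat_lit 0), (nat_lit 16), (nat_lit 3), (nat_lit 73), (nat_lit 48), (nat_lit 304), (nat_lit 14), (nat_lit 113), (nat_lit 3312), (nat_lit 1362), (nat_lit 2332), (nat_lit 21308), (nat_lit 3533)],
  [(nat_lit 0), (nat_lit 0), (nat_lit 1), (nat_lit 0), (nat_lit 1), (nat_lit 1), (nat_lit 1), (nat_lit 8), (nat_lit 56), (nat_lit 8), (nat_lit 11), (nat_lit 37), (nat_lit 37), (nat_lit 38), (nat_lit 1156), (nat_lit 1156), (nat_lit 2521), (nat_lit 0)]]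
def p2_low : List (ℕ × List ℕ × ℕ × ℕ) := [((nat_lit 1231), [(nat_lit 512), (nat_lit 32), (nat_lit 8), (nat_lit 128), (nat_lit 1024), (nat_lit 64), (nat_lit 8192), (nat_lit 4096), (nat_lit 131072), (nat_lit 2048)], (nat_lit 1), 1024),
  ((nat_lit 1901), [(nat_lit 650), (nat_lit 394), (nat_lit 786), (nat_lit 996), (nat_lit 85), (nat_lit 71844)], (nat_lit 1), 64),
  ((nat_lit 2995), [(nat_lit 168096), (nat_lit 21117)], (nat_lit 1), 4)]
theorem p2_rel : pccOK F.ext.eqOK Y2 (nat_lit 2) (nat_lit 18) p2_T = true := by decide +kernel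
theorem p2_low_ok : F.ext.lowOK (lowP Y2 (nat_lit 2) (nat_lit 18) p2_low) = true := by decide +kernel
def q2_low : List (ℕ × List ℕ × ℕ × ℕ) := [((nat_lit 1231), [(nat_lit 512), (nat_lit 32), (nat_lit 8), (nat_lit 128), (nat_lit 1024), (nat_lit 64), (nat_lit 8192), (nat_lit 4096), (nat_lit 32768), (nat_lit 2048)], (nat_lit 1), 1024),
  ((nat_lit 1901), [(nat_lit 768), (nat_lit 650), (nat_lit 163), (nat_lit 228), (nat_lit 945), (nat_lit 72041)], (nat_lit 1), 64),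
  ((nat_lit 2995), [(nat_lit 21117)], (nat_lit 1), 2)]
theorem q2_rel : pccOK F.eqOK Y2 (nat_lit 2) (nat_lit 17) p2_T = true := by decide +kernel
theorem q2_low_ok : F.lowOK (lowP Y2 (nat_lit 2) (nat_lit 17) q2_low) = true := by decide +kernel
noncomputable def R2 : List W := [
  wone,
  (.l (nat_lit 0)),
  (tw [(nat_lit 6), (nat_lit 0)]),
  (tw [(nat_lit 40), (nat_lit 6), (nat_lit 0)]),
  (.l (nat_lit 3510)),
  (tw [(nat_lit 3510), (nat_lit 16)]),
  (tw [(nat_lit 3510), (nat_lit 16), (nat_lit 92)])]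
noncomputable def t2_T17 : TL := ⟨(nat_lit 17), [], [
  [.keep, .keep]],
  [(nat_lit 0), (nat_lit 1)]⟩
noncomputable def t2_T16 : TL := ⟨(nat_lit 16), [], [
  [.keep, .keep],
  [.keep, .keep]],
  [(nat_lit 0), (nat_lit 1), (nat_lit 2), (nat_lit 3)]⟩
noncomputable def t2_T15 : TL := ⟨(nat_lit 15), [], [
  [.keep, .keep],
  [.keep, .keep],
  [.keep, .keep],
  [.keep, .keep]],
  [(nat_lit 0), (nat_lit 1), (nat_lit 2), (nat_lit 3), (nat_lit 4), (nat_lit 5), (nat_lit 6), (nat_lit 7)]⟩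
noncomputable def t2_T14 : TL := ⟨(nat_lit 14), [], [
  [.keep, .keep],
  [.keep, .jump (.l (nat_lit 16)) (nat_lit 39490)],
  [.keep, .jump (.l (nat_lit 15)) (nat_lit 71584)],
  [.pow (nat_lit 24265), .pow (nat_lit 22497)],
  [.keep, .keep],
  [.keep, .jump (.l (nat_lit 16)) (nat_lit 169784)],
  [.keep, .jump (.l (nat_lit 15)) (nat_lit 201583)],
  [.pow (nat_lit 21435), .pow (nat_lit 24138)]],
  [(nat_lit 0), (nat_lit 1), (nat_lit 2), (nat_lit 4), (nat_lit 8), (nat_lit 9), (nat_lit 10), (nat_lit 12)]⟩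
noncomputable def t2_T13 : TL := ⟨(nat_lit 13), [], [
  [.keep, .keep],
  [.keep, .keep],
  [.keep, .keep],
  [.keep, .keep],
  [.keep, .keep],
  [.keep, .keep],
  [.keep, .keep],
  [.keep, .keep]],
  [(nat_lit 0), (nat_lit 1), (nat_lit 2), (nat_lit 3), (nat_lit 4), (nat_lit 5), (nat_lit 8), (nat_lit 9), (nat_lit 16), (nat_lit 17), (nat_lit 18), (nat_lit 19), (nat_lit 20), (nat_lit 21), (nat_lit 24), (nat_lit 25)]⟩
noncomputable def t2_T12 : TL := ⟨(nat_lit 12), [], [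
  [.keep, .keep],
  [.keep, .jump (.l (nat_lit 15)) (nat_lit 8229)],
  [.keep, .keep],
  [.keep, .jump (.l (nat_lit 15)) (nat_lit 24613)],
  [.keep, .jump (.l (nat_lit 13)) (nat_lit 32806)],
  [.pow (nat_lit 5255), .pow (nat_lit 5295)],
  [.keep, .keep],
  [.keep, .keep],
  [.keep, .keep],
  [.keep, .jump (.l (nat_lit 15)) (nat_lit 140421)],
  [.keep, .keep],
  [.keep, .jump (.l (nat_lit 15)) (nat_lit 156805)],
  [.keep, .jump (.l (nat_lit 13)) (nat_lit 163855)],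
  [.pow (nat_lit 4134), .pow (nat_lit 4133)],
  [.keep, .keep],
  [.keep, .keep]],
  [(nat_lit 0), (nat_lit 1), (nat_lit 2), (nat_lit 4), (nat_lit 5), (nat_lit 6), (nat_lit 8), (nat_lit 16), (nat_lit 17), (nat_lit 18), (nat_lit 19), (nat_lit 32), (nat_lit 33), (nat_lit 34), (nat_lit 36), (nat_lit 37), (nat_lit 38), (nat_lit 40), (nat_lit 48), (nat_lit 49), (nat_lit 50), (nat_lit 51)]⟩
noncomputable def t2_T11 : TL := ⟨(nat_lit 11), [], [
  [.keep, .keep],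
  [.keep, .jump (.l (nat_lit 16)) (nat_lit 5250)],
  [.keep, .jump (.l (nat_lit 14)) (nat_lit 8229)],
  [.keep, .jump (.l (nat_lit 13)) (nat_lit 16422)],
  [.keep, .jump (.l (nat_lit 13)) (nat_lit 20524)],
  [.pow (nat_lit 3207), .pow (nat_lit 3238)],
  [.keep, .keep],
  [.pow (nat_lit 3533), .pow (nat_lit 3498)],
  [.keep, .jump (.l (nat_lit 12)) (nat_lit 70863)],
  [.pow (nat_lit 2183), .pow (nat_lit 2292)],
  [.keep, .jump (.l (nat_lit 12)) (nat_lit 79101)],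
  [.keep, .jump (.l (nat_lit 16)) (nat_lit 131506)],
  [.keep, .keep],
  [.keep, .jump (.l (nat_lit 14)) (nat_lit 140421)],
  [.keep, .jump (.l (nat_lit 13)) (nat_lit 147462)],
  [.keep, .jump (.l (nat_lit 13)) (nat_lit 151564)],
  [.pow (nat_lit 2086), .pow (nat_lit 2085)],
  [.keep, .keep],
  [.keep, .jump (.l (nat_lit 12)) (nat_lit 197887)],
  [.pow (nat_lit 2290), .pow (nat_lit 2218)],
  [.keep, .jump (.l (nat_lit 12)) (nat_lit 206029)],
  [.pow (nat_lit 3496), .pow (nat_lit 3557)]],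
  [(nat_lit 0), (nat_lit 1), (nat_lit 2), (nat_lit 4), (nat_lit 8), (nat_lit 10), (nat_lit 16), (nat_lit 17), (nat_lit 34), (nat_lit 38), (nat_lit 64), (nat_lit 66), (nat_lit 67), (nat_lit 68), (nat_lit 72), (nat_lit 74), (nat_lit 80), (nat_lit 81), (nat_lit 96), (nat_lit 100)]⟩
noncomputable def t2_T10 : TL := ⟨(nat_lit 10), [((nat_lit 18), [(nat_lit 538), (nat_lit 203), (nat_lit 431), (nat_lit 422), (nat_lit 217), (nat_lit 249), (nat_lit 67), (nat_lit 429), (nat_lit 288), (nat_lit 768)]), ((nat_lit 19), [(nat_lit 374), (nat_lit 876), (nat_lit 431), (nat_lit 390), (nat_lit 154), (nat_lit 330), (nat_lit 996), (nat_lit 717), (nat_lit 163), (nat_lit 650)])], [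
  [.keep, .keep],
  [.jump (.mul (.inv (.l (nat_lit 19))) (.mul (.inv (.l (nat_lit 16))) (.inv (.l (nat_lit 18))))) (nat_lit 1529), .jump (.mul (.inv (.l (nat_lit 19))) (.mul (.inv (.l (nat_lit 16))) (.mul (.inv (.l (nat_lit 18))) (.l (nat_lit 15))))) (nat_lit 1375)],
  [.jump (.mul (.inv (.l (nat_lit 18))) (.mul (.inv (.l (nat_lit 10))) (.mul (.inv (.l (nat_lit 16))) (.mul (.inv (.l (nat_lit 19))) (.inv (.l (nat_lit 14))))))) (nat_lit 1229), .jump (.mul (.inv (.l (nat_lit 18))) (.mul (.inv (.l (nat_lit 10))) (.mul (.inv (.l (nat_lit 16))) (.mul (.inv (.l (nat_lit 19))) (.mul (.inv (.l (nat_lit 14))) (.l (nat_lit 14))))))) (nat_lit 1218)],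
  [.jump (.mul (.inv (.l (nat_lit 18))) (.mul (.inv (.l (nat_lit 16))) (.mul (.inv (.l (nat_lit 12))) (.mul (.inv (.l (nat_lit 13))) (.inv (.l (nat_lit 18))))))) (nat_lit 1711), .jump (.mul (.inv (.l (nat_lit 18))) (.mul (.inv (.l (nat_lit 16))) (.mul (.inv (.l (nat_lit 12))) (.mul (.inv (.l (nat_lit 13))) (.mul (.inv (.l (nat_lit 18))) (.l (nat_lit 16))))))) (nat_lit 2045)],
  [.pow (nat_lit 1158), .pow (nat_lit 1165)],
  [.jump (.mul (.inv (.l (nat_lit 19))) (.mul (.inv (.l (nat_lit 10))) (.mul (.inv (.l (nat_lit 11))) (.mul (.inv (.l (nat_lit 14))) (.inv (.l (nat_lit 18))))))) (nat_lit 1641), .jump (.mul (.inv (.l (nat_lit 19))) (.mul (.inv (.l (nat_lit 10))) (.mul (.inv (.l (nat_lit 11))) (.mul (.inv (.l (nat_lit 14))) (.mul (.inv (.l (nat_lit 18))) (.l (nat_lit 12))))))) (nat_lit 1915)],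
  [.pow (nat_lit 1158), .pow (nat_lit 1167)],
  [.jump (.mul (.inv (.l (nat_lit 18))) (.mul (.inv (.l (nat_lit 18))) (.mul (.inv (.l (nat_lit 18))) (.inv (.l (nat_lit 19)))))) (nat_lit 1544), .jump (.mul (.inv (.l (nat_lit 18))) (.mul (.inv (.l (nat_lit 18))) (.mul (.inv (.l (nat_lit 18))) (.mul (.inv (.l (nat_lit 19))) (.l (nat_lit 11)))))) (nat_lit 1579)],
  [.jump (.mul (.inv (.l (nat_lit 18))) (.mul (.inv (.l (nat_lit 12))) (.mul (.inv (.l (nat_lit 18))) (.inv (.l (nat_lit 15)))))) (nat_lit 1870), .jump (.mul (.inv (.l (nat_lit 18))) (.mul (.inv (.l (nat_lit 12))) (.mul (.inv (.l (nat_lit 18))) (.mul (.inv (.l (nat_lit 15))) (.l (nat_lit 13)))))) (nat_lit 1793)],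
  [.pow (nat_lit 1146), .pow (nat_lit 1145)],
  [.jump (.mul (.inv (.l (nat_lit 18))) (.mul (.inv (.l (nat_lit 16))) (.mul (.inv (.l (nat_lit 13))) (.inv (.l (nat_lit 18)))))) (nat_lit 137391), .jump (.mul (.inv (.l (nat_lit 18))) (.mul (.inv (.l (nat_lit 16))) (.mul (.inv (.l (nat_lit 13))) (.mul (.inv (.l (nat_lit 18))) (.l (nat_lit 14)))))) (nat_lit 137635)],
  [.keep, .jump (.l (nat_lit 15)) (nat_lit 135338)],
  [.keep, .jump (.l (nat_lit 16)) (nat_lit 137599)],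
  [.jump (.mul (.inv (.l (nat_lit 19))) (.mul (.inv (.l (nat_lit 16))) (.mul (.inv (.l (nat_lit 18))) (.inv (.l (nat_lit 15)))))) (nat_lit 137861), .jump (.mul (.inv (.l (nat_lit 18))) (.mul (.inv (.l (nat_lit 16))) (.mul (.inv (.l (nat_lit 12))) (.mul (.inv (.l (nat_lit 18))) (.inv (.l (nat_lit 15))))))) (nat_lit 135727)],
  [.jump (.mul (.inv (.l (nat_lit 15))) (.mul (.inv (.l (nat_lit 19))) (.mul (.inv (.l (nat_lit 10))) (.mul (.inv (.l (nat_lit 19))) (.mul (.inv (.l (nat_lit 15))) (.inv (.l (nat_lit 18)))))))) (nat_lit 135706), .jump (.mul (.inv (.l (nat_lit 15))) (.mul (.inv (.l (nat_lit 19))) (.mul (.inv (.l (nat_lit 10))) (.mul (.inv (.l (nat_lit 19))) (.mul (.inv (.l (nat_lit 15))) (.mul (.inv (.l (nat_lit 18))) (.l (nat_lit 12)))))))) (nat_lit 135698)],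
  [.pow (nat_lit 1028), .pow (nat_lit 1029)],
  [.jump (.mul (.inv (.l (nat_lit 19))) (.mul (.inv (.l (nat_lit 13))) (.mul (.inv (.l (nat_lit 16))) (.inv (.l (nat_lit 19)))))) (nat_lit 137861), .jump (.mul (.inv (.l (nat_lit 19))) (.mul (.inv (.l (nat_lit 13))) (.mul (.inv (.l (nat_lit 16))) (.mul (.inv (.l (nat_lit 19))) (.l (nat_lit 11)))))) (nat_lit 137860)],
  [.pow (nat_lit 1028), .pow (nat_lit 1030)],
  [.pow (nat_lit 1032), .pow (nat_lit 1036)],
  [.jump (.mul (.inv (.l (nat_lit 19))) (.mul (.inv (.l (nat_lit 16))) (.inv (.l (nat_lit 18))))) (nat_lit 135291), .jump (.mul (.inv (.l (nat_lit 19))) (.mul (.inv (.l (nat_lit 16))) (.mul (.inv (.l (nat_lit 18))) (.l (nat_lit 13))))) (nat_lit 135333)]],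
  [(nat_lit 0), (nat_lit 1), (nat_lit 132), (nat_lit 134)]⟩
noncomputable def t2_T9 : TL := ⟨(nat_lit 9), [], [
  [.keep, .keep],
  [.keep, .keep],
  [.keep, .keep],
  [.keep, .keep]],
  [(nat_lit 0), (nat_lit 1), (nat_lit 2), (nat_lit 3), (nat_lit 264), (nat_lit 265), (nat_lit 268), (nat_lit 269)]⟩
noncomputable def t2_T8 : TL := ⟨(nat_lit 8), [], [
  [.keep, .keep],
  [.keep, .jump (.l (nat_lit 16)) (nat_lit 512)],
  [.keep, .keep],
  [.keep, .jump (.l (nat_lit 16)) (nat_lit 1550)],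
  [.keep, .jump (.mul (.l (nat_lit 16)) (.l (nat_lit 15))) (nat_lit 135227)],
  [.keep, .keep],
  [.keep, .keep],
  [.keep, .keep]],
  [(nat_lit 0), (nat_lit 1), (nat_lit 2), (nat_lit 4), (nat_lit 5), (nat_lit 6), (nat_lit 528), (nat_lit 530), (nat_lit 531), (nat_lit 536), (nat_lit 537), (nat_lit 538), (nat_lit 539)]⟩
noncomputable def t2_T7 : TL := ⟨(nat_lit 7), [], [
  [.keep, .keep],
  [.keep, .jump (.l (nat_lit 15)) (nat_lit 312)],
  [.keep, .jump (.l (nat_lit 14)) (nat_lit 520)],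
  [.keep, .keep],
  [.keep, .jump (.l (nat_lit 15)) (nat_lit 1331)],
  [.keep, .jump (.l (nat_lit 14)) (nat_lit 1537)],
  [.keep, .jump (.l (nat_lit 14)) (nat_lit 135205)],
  [.keep, .keep],
  [.keep, .jump (.mul (.l (nat_lit 16)) (.l (nat_lit 15))) (nat_lit 135942)],
  [.keep, .jump (.l (nat_lit 14)) (nat_lit 137217)],
  [.keep, .jump (.l (nat_lit 14)) (nat_lit 137591)],
  [.keep, .keep],
  [.keep, .jump (.l (nat_lit 15)) (nat_lit 138035)]],
  [(nat_lit 0), (nat_lit 1), (nat_lit 2), (nat_lit 4), (nat_lit 8), (nat_lit 9), (nat_lit 10), (nat_lit 12), (nat_lit 1056), (nat_lit 1060), (nat_lit 1061), (nat_lit 1062), (nat_lit 1072), (nat_lit 1074), (nat_lit 1076), (nat_lit 1077), (nat_lit 1078)]⟩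
noncomputable def t2_T6 : TL := ⟨(nat_lit 6), [], [
  [.keep, .keep],
  [.keep, .jump (.l (nat_lit 16)) (nat_lit 138)],
  [.keep, .jump (.l (nat_lit 14)) (nat_lit 309)],
  [.keep, .keep],
  [.keep, .keep],
  [.keep, .jump (.l (nat_lit 16)) (nat_lit 1156)],
  [.keep, .jump (.l (nat_lit 14)) (nat_lit 1340)],
  [.keep, .keep],
  [.keep, .keep],
  [.keep, .keep],
  [.keep, .jump (.mul (.l (nat_lit 16)) (.l (nat_lit 15))) (nat_lit 135837)],
  [.keep, .jump (.l (nat_lit 14)) (nat_lit 135960)],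
  [.keep, .keep],
  [.keep, .keep],
  [.keep, .keep],
  [.keep, .keep],
  [.keep, .jump (.l (nat_lit 14)) (nat_lit 138044)]],
  [(nat_lit 0), (nat_lit 1), (nat_lit 2), (nat_lit 4), (nat_lit 8), (nat_lit 9), (nat_lit 16), (nat_lit 17), (nat_lit 18), (nat_lit 20), (nat_lit 24), (nat_lit 25), (nat_lit 2112), (nat_lit 2113), (nat_lit 2120), (nat_lit 2121), (nat_lit 2122), (nat_lit 2124), (nat_lit 2144), (nat_lit 2145), (nat_lit 2148), (nat_lit 2149), (nat_lit 2152), (nat_lit 2153), (nat_lit 2154), (nat_lit 2155), (nat_lit 2156)]⟩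
noncomputable def t2_T5 : TL := ⟨(nat_lit 5), [], [
  [.keep, .keep],
  [.keep, .keep],
  [.keep, .jump (.l (nat_lit 13)) (nat_lit 143)],
  [.keep, .jump (.l (nat_lit 12)) (nat_lit 256)],
  [.keep, .jump (.l (nat_lit 11)) (nat_lit 520)],
  [.keep, .jump (.l (nat_lit 11)) (nat_lit 584)],
  [.keep, .keep],
  [.keep, .keep],
  [.keep, .jump (.l (nat_lit 13)) (nat_lit 1156)],
  [.keep, .jump (.l (nat_lit 12)) (nat_lit 1283)],
  [.keep, .jump (.l (nat_lit 11)) (nat_lit 1546)],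
  [.keep, .jump (.l (nat_lit 11)) (nat_lit 1610)],
  [.pow (nat_lit 41), .pow (nat_lit 40)],
  [.pow (nat_lit 43), .pow (nat_lit 42)],
  [.keep, .jump (.l (nat_lit 9)) (nat_lit 135689)],
  [.keep, .jump (.l (nat_lit 9)) (nat_lit 135753)],
  [.keep, .jump (.l (nat_lit 9)) (nat_lit 135817)],
  [.keep, .jump (.l (nat_lit 9)) (nat_lit 135945)],
  [.keep, .jump (.l (nat_lit 11)) (nat_lit 137228)],
  [.keep, .jump (.l (nat_lit 11)) (nat_lit 137292)],
  [.keep, .jump (.l (nat_lit 11)) (nat_lit 137496)],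
  [.keep, .jump (.l (nat_lit 11)) (nat_lit 137560)],
  [.keep, .jump (.l (nat_lit 13)) (nat_lit 137743)],
  [.keep, .jump (.l (nat_lit 13)) (nat_lit 137816)],
  [.keep, .keep],
  [.keep, .keep],
  [.keep, .jump (.l (nat_lit 12)) (nat_lit 137996)]],
  [(nat_lit 0), (nat_lit 1), (nat_lit 2), (nat_lit 3), (nat_lit 4), (nat_lit 8), (nat_lit 16), (nat_lit 18), (nat_lit 32), (nat_lit 33), (nat_lit 34), (nat_lit 35), (nat_lit 36), (nat_lit 40), (nat_lit 48), (nat_lit 50), (nat_lit 4240), (nat_lit 4242), (nat_lit 4244), (nat_lit 4248), (nat_lit 4288), (nat_lit 4290), (nat_lit 4296), (nat_lit 4298), (nat_lit 4304), (nat_lit 4306), (nat_lit 4308), (nat_lit 4309), (nat_lit 4310), (nat_lit 4311), (nat_lit 4312)]⟩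
noncomputable def t2_T4 : TL := ⟨(nat_lit 4), [], [
  [.keep, .keep],
  [.keep, .jump (.l (nat_lit 16)) (nat_lit 32)],
  [.keep, .jump (.l (nat_lit 13)) (nat_lit 70)],
  [.keep, .jump (.l (nat_lit 13)) (nat_lit 103)],
  [.keep, .keep],
  [.keep, .jump (.l (nat_lit 11)) (nat_lit 260)],
  [.keep, .keep],
  [.keep, .jump (.l (nat_lit 13)) (nat_lit 590)],
  [.keep, .keep],
  [.keep, .jump (.l (nat_lit 16)) (nat_lit 1070)],
  [.keep, .jump (.l (nat_lit 13)) (nat_lit 1101)],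
  [.keep, .jump (.l (nat_lit 13)) (nat_lit 1132)],
  [.keep, .keep],
  [.keep, .jump (.l (nat_lit 11)) (nat_lit 1286)],
  [.keep, .keep],
  [.keep, .jump (.l (nat_lit 13)) (nat_lit 1605)],
  [.keep, .jump (.l (nat_lit 8)) (nat_lit 135689)],
  [.keep, .jump (.l (nat_lit 8)) (nat_lit 135753)],
  [.keep, .jump (.l (nat_lit 8)) (nat_lit 135817)],
  [.pow (nat_lit 25), .pow (nat_lit 24)],
  [.keep, .keep],
  [.keep, .jump (.mul (.l (nat_lit 13)) (.l (nat_lit 11))) (nat_lit 137292)],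
  [.keep, .jump (.mul (.l (nat_lit 13)) (.l (nat_lit 11))) (nat_lit 137478)],
  [.keep, .keep],
  [.keep, .keep],
  [.keep, .keep],
  [.keep, .keep],
  [.keep, .keep],
  [.keep, .jump (.l (nat_lit 13)) (nat_lit 137926)],
  [.keep, .jump (.l (nat_lit 13)) (nat_lit 137959)],
  [.keep, .jump (.l (nat_lit 11)) (nat_lit 137984)]],
  [(nat_lit 0), (nat_lit 1), (nat_lit 2), (nat_lit 4), (nat_lit 6), (nat_lit 8), (nat_lit 9), (nat_lit 16), (nat_lit 32), (nat_lit 33), (nat_lit 36), (nat_lit 64), (nat_lit 65), (nat_lit 66), (nat_lit 68), (nat_lit 70), (nat_lit 72), (nat_lit 73), (nat_lit 80), (nat_lit 96), (nat_lit 97), (nat_lit 100), (nat_lit 8480), (nat_lit 8484), (nat_lit 8488), (nat_lit 8576), (nat_lit 8577), (nat_lit 8580), (nat_lit 8592), (nat_lit 8596), (nat_lit 8597), (nat_lit 8608), (nat_lit 8609), (nat_lit 8612), (nat_lit 8613), (nat_lit 8616), (nat_lit 8617), (nat_lit 8618), (nat_lit 8619), (nat_lit 8620),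 (nat_lit 8622), (nat_lit 8624)]⟩
noncomputable def t2_T3 : TL := ⟨(nat_lit 3), [], [
  [.keep, .keep],
  [.keep, .keep],
  [.keep, .jump (.l (nat_lit 15)) (nat_lit 39)],
  [.keep, .keep],
  [.keep, .jump (.l (nat_lit 15)) (nat_lit 102)],
  [.keep, .jump (.l (nat_lit 12)) (nat_lit 132)],
  [.keep, .jump (.l (nat_lit 12)) (nat_lit 148)],
  [.keep, .jump (.l (nat_lit 13)) (nat_lit 256)],
  [.keep, .jump (.l (nat_lit 10)) (nat_lit 512)],
  [.keep, .jump (.l (nat_lit 10)) (nat_lit 528)],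
  [.keep, .jump (.l (nat_lit 10)) (nat_lit 576)],
  [.keep, .jump (.l (nat_lit 9)) (nat_lit 1024)],
  [.keep, .jump (.l (nat_lit 9)) (nat_lit 1040)],
  [.keep, .jump (.l (nat_lit 9)) (nat_lit 1056)],
  [.keep, .jump (.l (nat_lit 9)) (nat_lit 1088)],
  [.keep, .jump (.l (nat_lit 9)) (nat_lit 1120)],
  [.keep, .jump (.l (nat_lit 9)) (nat_lit 1152)],
  [.keep, .jump (.l (nat_lit 9)) (nat_lit 1168)],
  [.keep, .jump (.l (nat_lit 9)) (nat_lit 1280)],
  [.pow (nat_lit 8), .pow (nat_lit 8)],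
  [.pow (nat_lit 8), .pow (nat_lit 8)],
  [.pow (nat_lit 8), .pow (nat_lit 8)],
  [.keep, .keep],
  [.keep, .jump (.mul (.l (nat_lit 13)) (.mul (.l (nat_lit 9)) (.l (nat_lit 8)))) (nat_lit 135746)],
  [.keep, .jump (.l (nat_lit 12)) (nat_lit 135809)],
  [.keep, .jump (.l (nat_lit 8)) (nat_lit 137220)],
  [.keep, .jump (.l (nat_lit 8)) (nat_lit 137236)],
  [.keep, .jump (.l (nat_lit 8)) (nat_lit 137284)],
  [.pow (nat_lit 12), .pow (nat_lit 12)],
  [.pow (nat_lit 14), .pow (nat_lit 14)],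
  [.pow (nat_lit 15), .pow (nat_lit 15)],
  [.keep, .jump (.l (nat_lit 8)) (nat_lit 137732)],
  [.keep, .jump (.l (nat_lit 8)) (nat_lit 137748)],
  [.keep, .jump (.l (nat_lit 8)) (nat_lit 137796)],
  [.keep, .jump (.l (nat_lit 8)) (nat_lit 137812)],
  [.keep, .jump (.l (nat_lit 8)) (nat_lit 137860)],
  [.keep, .jump (.l (nat_lit 8)) (nat_lit 137876)],
  [.keep, .jump (.l (nat_lit 8)) (nat_lit 137892)],
  [.keep, .jump (.l (nat_lit 8)) (nat_lit 137908)],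
  [.keep, .jump (.l (nat_lit 8)) (nat_lit 137924)],
  [.keep, .jump (.l (nat_lit 8)) (nat_lit 137956)],
  [.pow (nat_lit 12), .pow (nat_lit 12)]],
  [(nat_lit 0), (nat_lit 1), (nat_lit 2), (nat_lit 3), (nat_lit 4), (nat_lit 8), (nat_lit 9), (nat_lit 12), (nat_lit 16), (nat_lit 18), (nat_lit 32), (nat_lit 64), (nat_lit 66), (nat_lit 72), (nat_lit 128), (nat_lit 130), (nat_lit 132), (nat_lit 136), (nat_lit 140), (nat_lit 144), (nat_lit 146), (nat_lit 160), (nat_lit 16960), (nat_lit 16961), (nat_lit 16968), (nat_lit 16976), (nat_lit 17152), (nat_lit 17154), (nat_lit 17160), (nat_lit 17216), (nat_lit 17218), (nat_lit 17224), (nat_lit 17226), (nat_lit 17232), (nat_lit 17234), (nat_lit 17236), (nat_lit 17238), (nat_lit 17240), (nat_lit 17244)]⟩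
noncomputable def t2_T2 : TL := ⟨(nat_lit 2), [], [
  [.keep, .keep],
  [.keep, .jump (.l (nat_lit 16)) (nat_lit 8)],
  [.keep, .keep],
  [.keep, .jump (.l (nat_lit 16)) (nat_lit 24)],
  [.keep, .jump (.l (nat_lit 14)) (nat_lit 35)],
  [.keep, .keep],
  [.keep, .jump (.l (nat_lit 16)) (nat_lit 75)],
  [.keep, .jump (.l (nat_lit 14)) (nat_lit 96)],
  [.keep, .jump (.l (nat_lit 11)) (nat_lit 128)],
  [.keep, .jump (.l (nat_lit 11)) (nat_lit 144)],
  [.keep, .jump (.l (nat_lit 10)) (nat_lit 256)],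
  [.keep, .keep],
  [.keep, .keep],
  [.keep, .keep],
  [.keep, .jump (.l (nat_lit 8)) (nat_lit 1024)],
  [.keep, .jump (.l (nat_lit 8)) (nat_lit 1040)],
  [.keep, .jump (.l (nat_lit 8)) (nat_lit 1056)],
  [.keep, .jump (.l (nat_lit 8)) (nat_lit 1088)],
  [.keep, .jump (.l (nat_lit 8)) (nat_lit 1120)],
  [.keep, .jump (.l (nat_lit 8)) (nat_lit 1152)],
  [.keep, .jump (.l (nat_lit 8)) (nat_lit 1168)],
  [.pow (nat_lit 4), .pow (nat_lit 4)],
  [.keep, .jump (.l (nat_lit 7)) (nat_lit 135680)],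
  [.keep, .jump (.l (nat_lit 7)) (nat_lit 135688)],
  [.keep, .jump (.l (nat_lit 7)) (nat_lit 135744)],
  [.pow (nat_lit 4), .pow (nat_lit 4)],
  [.keep, .jump (.mul (.l (nat_lit 10)) (.l (nat_lit 8))) (nat_lit 137218)],
  [.keep, .jump (.mul (.l (nat_lit 10)) (.l (nat_lit 8))) (nat_lit 137234)],
  [.keep, .jump (.mul (.l (nat_lit 10)) (.l (nat_lit 8))) (nat_lit 137282)],
  [.keep, .jump (.l (nat_lit 11)) (nat_lit 137728)],
  [.keep, .jump (.l (nat_lit 11)) (nat_lit 137744)],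
  [.keep, .jump (.l (nat_lit 11)) (nat_lit 137792)],
  [.keep, .jump (.l (nat_lit 11)) (nat_lit 137808)],
  [.keep, .keep],
  [.keep, .keep],
  [.keep, .jump (.l (nat_lit 14)) (nat_lit 137890)],
  [.keep, .jump (.l (nat_lit 14)) (nat_lit 137906)],
  [.keep, .keep],
  [.keep, .jump (.l (nat_lit 14)) (nat_lit 137953)]],
  [(nat_lit 0), (nat_lit 1), (nat_lit 2), (nat_lit 4), (nat_lit 5), (nat_lit 6), (nat_lit 8), (nat_lit 16), (nat_lit 17), (nat_lit 18), (nat_lit 24), (nat_lit 32), (nat_lit 36), (nat_lit 64), (nat_lit 128), (nat_lit 129), (nat_lit 132), (nat_lit 133), (nat_lit 144), (nat_lit 145), (nat_lit 256), (nat_lit 260), (nat_lit 264), (nat_lit 272), (nat_lit 280), (nat_lit 288), (nat_lit 292), (nat_lit 33920), (nat_lit 33922), (nat_lit 33936), (nat_lit 34304), (nat_lit 34308), (nat_lit 34320), (nat_lit 34432), (nat_lit 34436), (nat_lit 34448), (nat_lit 34452), (nat_lit 34464), (nat_lit 34465), (nat_lit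 34468), (nat_lit 34469), (nat_lit 34472), (nat_lit 34476), (nat_lit 34480), (nat_lit 34481), (nat_lit 34488)]⟩
noncomputable def t2_T1 : TL := ⟨(nat_lit 1), [], [
  [.keep, .keep],
  [.keep, .jump (.l (nat_lit 15)) (nat_lit 5)],
  [.keep, .jump (.l (nat_lit 14)) (nat_lit 8)],
  [.keep, .keep],
  [.keep, .jump (.l (nat_lit 15)) (nat_lit 20)],
  [.keep, .jump (.l (nat_lit 14)) (nat_lit 24)],
  [.keep, .keep],
  [.keep, .jump (.l (nat_lit 12)) (nat_lit 65)],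
  [.keep, .jump (.l (nat_lit 12)) (nat_lit 68)],
  [.keep, .jump (.l (nat_lit 12)) (nat_lit 72)],
  [.keep, .jump (.l (nat_lit 12)) (nat_lit 97)],
  [.keep, .jump (.l (nat_lit 10)) (nat_lit 128)],
  [.keep, .jump (.l (nat_lit 10)) (nat_lit 144)],
  [.keep, .keep],
  [.keep, .keep],
  [.keep, .jump (.mul (.l (nat_lit 15)) (.mul (.l (nat_lit 14)) (.l (nat_lit 10)))) (nat_lit 516)],
  [.keep, .keep],
  [.keep, .jump (.mul (.l (nat_lit 15)) (.mul (.l (nat_lit 14)) (.l (nat_lit 10)))) (nat_lit 533)],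
  [.keep, .jump (.mul (.l (nat_lit 12)) (.mul (.l (nat_lit 11)) (.l (nat_lit 10)))) (nat_lit 577)],
  [.keep, .jump (.mul (.l (nat_lit 12)) (.mul (.l (nat_lit 11)) (.l (nat_lit 10)))) (nat_lit 580)],
  [.keep, .jump (.l (nat_lit 7)) (nat_lit 1024)],
  [.keep, .jump (.l (nat_lit 7)) (nat_lit 1040)],
  [.keep, .jump (.l (nat_lit 7)) (nat_lit 1056)],
  [.keep, .jump (.l (nat_lit 7)) (nat_lit 1088)],
  [.keep, .jump (.l (nat_lit 7)) (nat_lit 1120)],
  [.pow (nat_lit 2), .pow (nat_lit 2)],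
  [.pow (nat_lit 2), .pow (nat_lit 2)],
  [.keep, .jump (.l (nat_lit 6)) (nat_lit 135680)],
  [.keep, .jump (.l (nat_lit 6)) (nat_lit 135688)],
  [.pow (nat_lit 2), .pow (nat_lit 2)],
  [.keep, .jump (.l (nat_lit 6)) (nat_lit 137216)],
  [.keep, .jump (.l (nat_lit 6)) (nat_lit 137232)],
  [.pow (nat_lit 2), .pow (nat_lit 2)],
  [.keep, .jump (.l (nat_lit 6)) (nat_lit 137728)],
  [.keep, .jump (.l (nat_lit 6)) (nat_lit 137744)],
  [.pow (nat_lit 2), .pow (nat_lit 2)],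
  [.pow (nat_lit 3), .pow (nat_lit 3)],
  [.keep, .jump (.l (nat_lit 6)) (nat_lit 137856)],
  [.keep, .jump (.l (nat_lit 6)) (nat_lit 137860)],
  [.keep, .jump (.l (nat_lit 6)) (nat_lit 137872)],
  [.keep, .jump (.l (nat_lit 6)) (nat_lit 137876)],
  [.keep, .jump (.l (nat_lit 6)) (nat_lit 137888)],
  [.keep, .jump (.l (nat_lit 6)) (nat_lit 137904)],
  [.pow (nat_lit 2), .pow (nat_lit 2)],
  [.pow (nat_lit 2), .pow (nat_lit 2)],
  [.pow (nat_lit 2), .pow (nat_lit 2)]],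
  [(nat_lit 0), (nat_lit 1), (nat_lit 2), (nat_lit 4), (nat_lit 8), (nat_lit 9), (nat_lit 10), (nat_lit 12), (nat_lit 16), (nat_lit 17), (nat_lit 32), (nat_lit 34), (nat_lit 36), (nat_lit 48), (nat_lit 64), (nat_lit 72), (nat_lit 128), (nat_lit 129), (nat_lit 256), (nat_lit 257), (nat_lit 258), (nat_lit 264), (nat_lit 265), (nat_lit 266), (nat_lit 288), (nat_lit 290), (nat_lit 512), (nat_lit 520), (nat_lit 528), (nat_lit 544), (nat_lit 560), (nat_lit 67840), (nat_lit 67844), (nat_lit 68608), (nat_lit 68616), (nat_lit 68864), (nat_lit 68872), (nat_lit 68928), (nat_lit 68930), (nat_lit 68936), (nat_lit 68938), (nat_lit 68944), (nat_lit 68952)]⟩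
noncomputable def t2_T0 : TL := ⟨(nat_lit 0), [], [
  [.keep, .keep],
  [.keep, .jump (.l (nat_lit 13)) (nat_lit 2)],
  [.keep, .jump (.l (nat_lit 12)) (nat_lit 4)],
  [.keep, .jump (.l (nat_lit 11)) (nat_lit 8)],
  [.keep, .jump (.l (nat_lit 13)) (nat_lit 16)],
  [.keep, .jump (.l (nat_lit 15)) (nat_lit 18)],
  [.keep, .jump (.l (nat_lit 12)) (nat_lit 20)],
  [.keep, .jump (.l (nat_lit 11)) (nat_lit 24)],
  [.keep, .jump (.l (nat_lit 10)) (nat_lit 32)],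
  [.keep, .jump (.l (nat_lit 10)) (nat_lit 34)],
  [.keep, .jump (.l (nat_lit 15)) (nat_lit 64)],
  [.keep, .keep],
  [.keep, .jump (.l (nat_lit 11)) (nat_lit 72)],
  [.keep, .jump (.l (nat_lit 10)) (nat_lit 96)],
  [.keep, .keep],
  [.keep, .jump (.mul (.l (nat_lit 15)) (.mul (.l (nat_lit 12)) (.mul (.l (nat_lit 11)) (.l (nat_lit 10))))) (nat_lit 144)],
  [.keep, .keep],
  [.keep, .jump (.mul (.l (nat_lit 17)) (.mul (.l (nat_lit 13)) (.mul (.l (nat_lit 12)) (.mul (.l (nat_lit 11)) (.l (nat_lit 10)))))) (nat_lit 258)],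
  [.keep, .keep],
  [.keep, .jump (.mul (.l (nat_lit 13)) (.l (nat_lit 10))) (nat_lit 514)],
  [.keep, .jump (.mul (.l (nat_lit 12)) (.mul (.l (nat_lit 11)) (.l (nat_lit 10)))) (nat_lit 516)],
  [.keep, .jump (.mul (.l (nat_lit 13)) (.l (nat_lit 10))) (nat_lit 528)],
  [.keep, .jump (.mul (.l (nat_lit 15)) (.mul (.l (nat_lit 14)) (.l (nat_lit 10)))) (nat_lit 530)],
  [.keep, .jump (.mul (.l (nat_lit 12)) (.mul (.l (nat_lit 11)) (.l (nat_lit 10)))) (nat_lit 532)],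
  [.keep, .jump (.mul (.l (nat_lit 15)) (.mul (.l (nat_lit 14)) (.mul (.l (nat_lit 12)) (.mul (.l (nat_lit 11)) (.l (nat_lit 0)))))) (nat_lit 576)],
  [.keep, .keep],
  [.keep, .jump (.l (nat_lit 5)) (nat_lit 1024)],
  [.keep, .jump (.l (nat_lit 5)) (nat_lit 1040)],
  [.pow (nat_lit 1), .pow (nat_lit 1)],
  [.keep, .jump (.l (nat_lit 5)) (nat_lit 1088)],
  [.pow (nat_lit 1), .pow (nat_lit 1)],
  [.keep, .jump (.l (nat_lit 3)) (nat_lit 135680)],
  [.pow (nat_lit 1), .pow (nat_lit 1)],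
  [.keep, .jump (.l (nat_lit 4)) (nat_lit 137216)],
  [.pow (nat_lit 1), .pow (nat_lit 1)],
  [.keep, .jump (.l (nat_lit 4)) (nat_lit 137728)],
  [.pow (nat_lit 1), .pow (nat_lit 1)],
  [.keep, .jump (.l (nat_lit 4)) (nat_lit 137856)],
  [.keep, .jump (.l (nat_lit 4)) (nat_lit 137860)],
  [.pow (nat_lit 1), .pow (nat_lit 1)],
  [.pow (nat_lit 1), .pow (nat_lit 1)],
  [.keep, .jump (.l (nat_lit 4)) (nat_lit 137888)],
  [.pow (nat_lit 1), .pow (nat_lit 1)]],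
  [(nat_lit 0), (nat_lit 1), (nat_lit 2), (nat_lit 4), (nat_lit 8), (nat_lit 16), (nat_lit 18), (nat_lit 20), (nat_lit 24), (nat_lit 32), (nat_lit 34), (nat_lit 64), (nat_lit 68), (nat_lit 69), (nat_lit 72), (nat_lit 96), (nat_lit 128), (nat_lit 129), (nat_lit 144), (nat_lit 256), (nat_lit 257), (nat_lit 258), (nat_lit 512), (nat_lit 513), (nat_lit 514), (nat_lit 516), (nat_lit 528), (nat_lit 530), (nat_lit 532), (nat_lit 576), (nat_lit 580), (nat_lit 581), (nat_lit 1024), (nat_lit 1040), (nat_lit 1088), (nat_lit 135680), (nat_lit 137216), (nat_lit 137728), (nat_lit 137856), (nat_lit 137860), (nat_lit 137888)]⟩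
theorem t2_s0 : stepsOK F.ext.eqOK Y2 (nat_lit 2) (nat_lit 18) [t2_T17, t2_T16, t2_T15, t2_T14, t2_T13, t2_T12, t2_T11, t2_T10, t2_T9, t2_T8, t2_T7, t2_T6, t2_T5, t2_T4, t2_T3] (nat_lit 18) [nat_lit 0] (nat_lit 3) t2_T3.nx = true := by decide +kernel
theorem t2_s1 : stepsOK F.ext.eqOK Y2 (nat_lit 2) (nat_lit 18) [t2_T2, t2_T1, t2_T0] (nat_lit 3) t2_T3.nx (nat_lit 0) t2_T0.nx = true := by decide +kernel
noncomputable def t2_fin : List (W × ℕ) := [
  (wone, nat_lit 0),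
  ((tw [(nat_lit 797), (nat_lit 93), (nat_lit 2657), (nat_lit 80), (nat_lit 2379), (nat_lit 594), (nat_lit 2930)]), (nat_lit 2)),
  ((tw [(nat_lit 2173), (nat_lit 1858), (nat_lit 2695), (nat_lit 3434), (nat_lit 3208), (nat_lit 409), (nat_lit 2841)]), (nat_lit 2)),
  ((tw [(nat_lit 758), (nat_lit 807), (nat_lit 1415), (nat_lit 1530), (nat_lit 818), (nat_lit 2252), (nat_lit 2630), (nat_lit 2108)]), (nat_lit 3)),
  ((tw [(nat_lit 2328), (nat_lit 2469), (nat_lit 866), (nat_lit 418), (nat_lit 2342), (nat_lit 1498)]), (nat_lit 2)),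
  ((tw [(nat_lit 428), (nat_lit 494), (nat_lit 2890), (nat_lit 1610), (nat_lit 3151), (nat_lit 835), (nat_lit 2906), (nat_lit 2685)]), (nat_lit 3)),
  ((tw [(nat_lit 1456), (nat_lit 1758), (nat_lit 237), (nat_lit 1168), (nat_lit 794), (nat_lit 1862)]), (nat_lit 1)),
  ((tw [(nat_lit 1063), (nat_lit 2727), (nat_lit 3034), (nat_lit 2234), (nat_lit 2471), (nat_lit 2030), (nat_lit 944), (nat_lit 2215)]), (nat_lit 2)),
  ((tw [(nat_lit 1263), (nat_lit 44), (nat_lit 37), (nat_lit 542), (nat_lit 694), (nat_lit 1191), (nat_lit 2336), (nat_lit 6)]), (nat_lit 3)),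
  ((tw [(nat_lit 911), (nat_lit 1768), (nat_lit 2103), (nat_lit 1824), (nat_lit 2627), (nat_lit 3122), (nat_lit 1469)]), (nat_lit 2)),
  ((tw [(nat_lit 2708), (nat_lit 2685), (nat_lit 68), (nat_lit 213), (nat_lit 26), (nat_lit 679), (nat_lit 473), (nat_lit 120), (nat_lit 92)]), (nat_lit 3)),
  ((tw [(nat_lit 1092), (nat_lit 420), (nat_lit 3023), (nat_lit 3400), (nat_lit 2412), (nat_lit 3133), (nat_lit 509)]), (nat_lit 2)),
  ((tw [(nat_lit 2228), (nat_lit 3173), (nat_lit 2266), (nat_lit 2314), (nat_lit 785), (nat_lit 2006), (nat_lit 1095)]), (nat_lit 3)),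
  ((tw [(nat_lit 2875), (nat_lit 3481), (nat_lit 2586), (nat_lit 1764), (nat_lit 2693), (nat_lit 2919), (nat_lit 2137), (nat_lit 711)]), (nat_lit 1)),
  ((tw [(nat_lit 2229), (nat_lit 2266), (nat_lit 225), (nat_lit 340), (nat_lit 1758), (nat_lit 2101), (nat_lit 2693)]), (nat_lit 3)),
  ((tw [(nat_lit 550), (nat_lit 2360), (nat_lit 3171), (nat_lit 146), (nat_lit 2417), (nat_lit 2035), (nat_lit 1376)]), (nat_lit 3)),
  ((tw [(nat_lit 88), (nat_lit 1359), (nat_lit 1774), (nat_lit 2162), (nat_lit 449), (nat_lit 1154), (nat_lit 1968), (nat_lit 3149)]), (nat_lit 2)),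
  ((tw [(nat_lit 978), (nat_lit 1100), (nat_lit 2701), (nat_lit 980), (nat_lit 479), (nat_lit 2624), (nat_lit 1007), (nat_lit 2638)]), (nat_lit 3)),
  ((tw [(nat_lit 2481), (nat_lit 604), (nat_lit 1944), (nat_lit 2884), (nat_lit 2769), (nat_lit 1583), (nat_lit 2947), (nat_lit 902)]), (nat_lit 3)),
  ((tw [(nat_lit 1734), (nat_lit 2149), (nat_lit 2292), (nat_lit 269), (nat_lit 863), (nat_lit 1709), (nat_lit 1582)]), (nat_lit 2)),
  ((tw [(nat_lit 3235), (nat_lit 2417), (nat_lit 1045), (nat_lit 2133), (nat_lit 1105)]), (nat_lit 3)),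
  ((tw [(nat_lit 2590), (nat_lit 2103), (nat_lit 121), (nat_lit 41), (nat_lit 370), (nat_lit 154), (nat_lit 88)]), (nat_lit 3)),
  ((tw [(nat_lit 327), (nat_lit 143), (nat_lit 2360), (nat_lit 1577), (nat_lit 2410), (nat_lit 3424), (nat_lit 1970), (nat_lit 2735)]), (nat_lit 1)),
  ((tw [(nat_lit 2890), (nat_lit 2458), (nat_lit 1581), (nat_lit 10), (nat_lit 831), (nat_lit 542), (nat_lit 472), (nat_lit 92)]), (nat_lit 3)),
  ((tw [(nat_lit 1186), (nat_lit 475), (nat_lit 335), (nat_lit 89), (nat_lit 43), (nat_lit 154), (nat_lit 545), (nat_lit 88)]), (nat_lit 3)),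
  ((tw [(nat_lit 2422), (nat_lit 1690), (nat_lit 2251), (nat_lit 2632), (nat_lit 2322), (nat_lit 2911), (nat_lit 703), (nat_lit 517)]), (nat_lit 3)),
  ((tw [(nat_lit 464), (nat_lit 1139), (nat_lit 1452), (nat_lit 2088), (nat_lit 484), (nat_lit 525), (nat_lit 317)]), (nat_lit 3)),
  ((tw [(nat_lit 1890), (nat_lit 3032), (nat_lit 2994), (nat_lit 1109), (nat_lit 2762), (nat_lit 2301), (nat_lit 1659)]), (nat_lit 2)),
  ((tw [(nat_lit 964), (nat_lit 2237), (nat_lit 3085), (nat_lit 756), (nat_lit 232), (nat_lit 42), (nat_lit 1920)]), (nat_lit 3)),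
  ((tw [(nat_lit 1854), (nat_lit 1827), (nat_lit 424), (nat_lit 317), (nat_lit 619), (nat_lit 447), (nat_lit 1926)]), (nat_lit 3)),
  ((tw [(nat_lit 905), (nat_lit 3045), (nat_lit 2498), (nat_lit 18), (nat_lit 231), (nat_lit 26), (nat_lit 474), (nat_lit 88), (nat_lit 92)]), (nat_lit 3)),
  ((tw [(nat_lit 760), (nat_lit 1940), (nat_lit 2312), (nat_lit 2704), (nat_lit 63), (nat_lit 3098), (nat_lit 3197)]), (nat_lit 2)),
  ((tw [(nat_lit 3013), (nat_lit 2239), (nat_lit 2193), (nat_lit 2631), (nat_lit 370), (nat_lit 3254)]), (nat_lit 2)),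
  ((tw [(nat_lit 1868), (nat_lit 2181), (nat_lit 1986), (nat_lit 770), (nat_lit 2175), (nat_lit 3451), (nat_lit 711), (nat_lit 187)]), (nat_lit 3)),
  ((tw [(nat_lit 2120), (nat_lit 1565), (nat_lit 1139), (nat_lit 2895), (nat_lit 988), (nat_lit 1753), (nat_lit 122), (nat_lit 2809)]), (nat_lit 3)),
  ((tw [(nat_lit 1959), (nat_lit 1763), (nat_lit 183), (nat_lit 41), (nat_lit 542), (nat_lit 430), (nat_lit 92)]), (nat_lit 6)),
  ((tw [(nat_lit 852), (nat_lit 1103), (nat_lit 2979), (nat_lit 1746), (nat_lit 3388), (nat_lit 2301), (nat_lit 809)]), (nat_lit 5)),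
  ((tw [(nat_lit 553), (nat_lit 793), (nat_lit 3061), (nat_lit 1563), (nat_lit 418), (nat_lit 182)]), (nat_lit 6)),
  ((tw [(nat_lit 1923), (nat_lit 3260), (nat_lit 2413), (nat_lit 2298), (nat_lit 2195), (nat_lit 2837), (nat_lit 2378)]), (nat_lit 6)),
  ((tw [(nat_lit 714), (nat_lit 3371), (nat_lit 961), (nat_lit 777), (nat_lit 715), (nat_lit 2156), (nat_lit 3003), (nat_lit 2952)]), (nat_lit 4)),
  ((tw [(nat_lit 2468), (nat_lit 1078), (nat_lit 3476), (nat_lit 1596), (nat_lit 2177), (nat_lit 2948), (nat_lit 2543)]), (nat_lit 6))]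
theorem t2_fin_ok : finOK F.ext.eqOK Y2 R2 (nat_lit 2) (nat_lit 18) t2_T0.nx t2_fin = true := by decide +kernel

variable {G : Type*} [Group G] {D : Set G} {τ : ℕ → G}

theorem pcc2 (h : H22 D τ) : PCC (env τ Y2) 2 17 := h.pcc q2_rel q2_low_ok (by decide +kernel)

theorem inv_ext (h : Has F.ext (2 * 64561751654400) D τ) {y : G} (hy : y ^ 2 = 1) : ∃ r, IsConj (env τ R2 r) y :=
  have := h.fin
  have S := h.snd
  have P : PCC (env τ Y2) 2 18 := h.pcc p2_rel p2_low_ok (by decide +kernel)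
  Cl.all (m := 492567075) P (Cl.steps S P t2_s0 (Cl.steps S P t2_s1 (Cl.fin S t2_fin_ok))) h.card (by decide) hy

end Cfsg.Lib.Fi.M22
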