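import Cfsg.Agent.Lib.Fi.M23
import Cfsg.Agent.Lib.Fi.Clj

set_option autoImplicit false
set_option maxRecDepth 1000000
set_option maxHeartbeats 0
set_option Elab.async false

namespace Cfsg.Lib.Fi.M23

open Cfsg.Lib.Calc

noncomputable def Y2 : List W := [
  (tw [(nat_lit 3084), (nat_lit 5263), (nat_lit 17891)]),
  (tw [(nat_lit 3487), (nat_lit 5166), (nat_lit 5263)]),
  (tw [(nat_lit 176), (nat_lit 3487), (nat_lit 17891)]),
  (tw [(nat_lit 4966), (nat_lit 5263), (nat_lit 14583)]),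
  (tw [(nat_lit 176), (nat_lit 3084), (nat_lit 3487)]),
  (tw [(nat_lit 176), (nat_lit 5166), (nat_lit 5263)]),
  (tw [(nat_lit 2067), (nat_lit 9519)]),
  (tw [(nat_lit 5263), (nat_lit 13876), (nat_lit 17891)]),
  (tw [(nat_lit 547), (nat_lit 2067)]),
  (tw [(nat_lit 1877), (nat_lit 2067)]),
  (.l (nat_lit 2067)),
  (tw [(nat_lit 2681), (nat_lit 8762), (nat_lit 23393), (nat_lit 16983), (nat_lit 11070), (nat_lit 8762)]),
  (tw [(nat_lit 8835), (nat_lit 23297)]),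
  (tw [(nat_lit 7038), (nat_lit 15658), (nat_lit 11255), (nat_lit 4597), (nat_lit 28513), (nat_lit 15709), (nat_lit 18388)]),
  (tw [(nat_lit 5166), (nat_lit 16240), (nat_lit 24004), (nat_lit 30284), (nat_lit 14802), (nat_lit 16574)]),
  (tw [(nat_lit 5385), (nat_lit 7116)]),
  (tw [(nat_lit 12612), (nat_lit 23832), (nat_lit 6046), (nat_lit 23832)]),
  (tw [(nat_lit 31447), (nat_lit 20806), (nat_lit 20827), (nat_lit 19098), (nat_lit 18587), (nat_lit 24814), (nat_lit 26747)])]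
def p2_T : List (List ℕ) := [[(nat_lit 0)],
  [(nat_lit 0), (nat_lit 0)],
  [(nat_lit 0), (nat_lit 0), (nat_lit 0)],
  [(nat_lit 0), (nat_lit 0), (nat_lit 0), (nat_lit 0)],
  [(nat_lit 0), (nat_lit 0), (nat_lit 0), (nat_lit 0), (nat_lit 0)],
  [(nat_lit 0), (nat_lit 0), (nat_lit 0), (nat_lit 0), (nat_lit 0), (nat_lit 0)],
  [(nat_lit 0), (nat_lit 0), (nat_lit 0), (nat_lit 0), (nat_lit 0), (nat_lit 0), (nat_lit 0)],
  [(nat_lit 0), (nat_lit 0), (nat_lit 0), (nat_lit 0), (nat_lit 0), (nat_lit 0), (nat_lit 0), (nat_lit 0)],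
  [(nat_lit 0), (nat_lit 0), (nat_lit 0), (nat_lit 0), (nat_lit 0), (nat_lit 0), (nat_lit 0), (nat_lit 0), (nat_lit 0)],
  [(nat_lit 0), (nat_lit 0), (nat_lit 0), (nat_lit 0), (nat_lit 0), (nat_lit 0), (nat_lit 0), (nat_lit 0), (nat_lit 0), (nat_lit 0)],
  [(nat_lit 0), (nat_lit 0), (nat_lit 0), (nat_lit 0), (nat_lit 0), (nat_lit 0), (nat_lit 0), (nat_lit 0), (nat_lit 0), (nat_lit 0), (nat_lit 0)],
  [(nat_lit 0), (nat_lit 0), (nat_lit 0), (nat_lit 0), (nat_lit 0), (nat_lit 0), (nat_lit 1), (nat_lit 0), (nat_lit 2), (nat_lit 4), (nat_lit 26), (nat_lit 1)],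
  [(nat_lit 0), (nat_lit 0), (nat_lit 0), (nat_lit 1), (nat_lit 0), (nat_lit 0), (nat_lit 1), (nat_lit 0), (nat_lit 19), (nat_lit 36), (nat_lit 91), (nat_lit 0), (nat_lit 0)],
  [(nat_lit 0), (nat_lit 0), (nat_lit 1), (nat_lit 0), (nat_lit 1), (nat_lit 1), (nat_lit 0), (nat_lit 22), (nat_lit 8), (nat_lit 94), (nat_lit 64), (nat_lit 1), (nat_lit 0), (nat_lit 23)],
  [(nat_lit 0), (nat_lit 0), (nat_lit 0), (nat_lit 2), (nat_lit 0), (nat_lit 0), (nat_lit 16), (nat_lit 0), (nat_lit 2), (nat_lit 132), (nat_lit 280), (nat_lit 18), (nat_lit 0), (nat_lit 2139), (nat_lit 0)],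
  [(nat_lit 0), (nat_lit 0), (nat_lit 2), (nat_lit 0), (nat_lit 2), (nat_lit 22), (nat_lit 8), (nat_lit 2), (nat_lit 0), (nat_lit 286), (nat_lit 256), (nat_lit 8), (nat_lit 2140), (nat_lit 28), (nat_lit 0), (nat_lit 0)],
  [(nat_lit 0), (nat_lit 1), (nat_lit 0), (nat_lit 1), (nat_lit 0), (nat_lit 1), (nat_lit 1), (nat_lit 35), (nat_lit 82), (nat_lit 26), (nat_lit 26), (nat_lit 1), (nat_lit 1), (nat_lit 35), (nat_lit 6271), (nat_lit 10431), (nat_lit 0)],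
  [(nat_lit 0), (nat_lit 0), (nat_lit 0), (nat_lit 4), (nat_lit 0), (nat_lit 0), (nat_lit 32), (nat_lit 0), (nat_lit 128), (nat_lit 0), (nat_lit 512), (nat_lit 61), (nat_lit 72), (nat_lit 4096), (nat_lit 264), (nat_lit 16384), (nat_lit 2089), (nat_lit 676)]]
def p2_low : List (ℕ × List ℕ × ℕ × ℕ) := [((nat_lit 8000), [(nat_lit 1024), (nat_lit 64), (nat_lit 4096), (nat_lit 32768), (nat_lit 65536)], (nat_lit 3), 1024),
  ((nat_lit 26288), [(nat_lit 144), (nat_lit 21), (nat_lit 50), (nat_lit 1227), (nat_lit 603), (nat_lit 135460), (nat_lit 23570)], (nat_lit 1), 128),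
  ((nat_lit 8006), [(nat_lit 1280)], (nat_lit 1), 2)]
theorem p2_rel : pccOK F.eqOK Y2 (nat_lit 2) (nat_lit 18) p2_T = true := by decide +kernel
theorem p2_low_ok : F.lowOK (lowP Y2 (nat_lit 2) (nat_lit 18) p2_low) = true := by decide +kernel
def j2_T : List (List ℕ) := [[(nat_lit 1), (nat_lit 2), (nat_lit 4), (nat_lit 8), (nat_lit 16), (nat_lit 32), (nat_lit 65), (nat_lit 128), (nat_lit 258), (nat_lit 516), (nat_lit 1050)],
  [(nat_lit 1), (nat_lit 2), (nat_lit 4), (nat_lit 9), (nat_lit 16), (nat_lit 32), (nat_lit 65), (nat_lit 128), (nat_lit 275), (nat_lit 548), (nat_lit 1115)],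
  [(nat_lit 1), (nat_lit 2), (nat_lit 5), (nat_lit 8), (nat_lit 17), (nat_lit 33), (nat_lit 64), (nat_lit 150), (nat_lit 264), (nat_lit 606), (nat_lit 1088)],
  [(nat_lit 1), (nat_lit 2), (nat_lit 4), (nat_lit 10), (nat_lit 16), (nat_lit 32), (nat_lit 80), (nat_lit 128), (nat_lit 258), (nat_lit 644), (nat_lit 1304)],
  [(nat_lit 1), (nat_lit 2), (nat_lit 6), (nat_lit 8), (nat_lit 18), (nat_lit 54), (nat_lit 72), (nat_lit 130), (nat_lit 256), (nat_lit 798), (nat_lit 1280)],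
  [(nat_lit 1), (nat_lit 3), (nat_lit 4), (nat_lit 9), (nat_lit 16), (nat_lit 33), (nat_lit 65), (nat_lit 163), (nat_lit 338), (nat_lit 538), (nat_lit 1050)],
  [(nat_lit 1), (nat_lit 2), (nat_lit 4), (nat_lit 12), (nat_lit 16), (nat_lit 32), (nat_lit 96), (nat_lit 128), (nat_lit 384), (nat_lit 512), (nat_lit 1536)]]
theorem j2_ok : repOK F.eqOK Y2 (nat_lit 2) (nat_lit 0) (nat_lit 11) ((Y2.take 18).drop 11) j2_T = true := by decide +kernel
theorem off2 : offK (get (nat_lit 11)) (nat_lit 2) (nat_lit 11) (nat_lit 2048) (nat_lit 11) (nat_lit 7) (nat_lit 4) ((j2_T.map (matC (nat_lit 2) (nat_lit 0) (nat_lit 11))).map (tabM (nat_lit 2) (nat_lit 11) (nat_lit 2048) (nat_lit 11))) = true := by decide +kernel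
variable {G : Type*} [Group G] {D : Set G} {τ : ℕ → G}
theorem pcc2 (h : H23 D τ) : PCC (env τ Y2) 2 18 := h.pcc p2_rel p2_low_ok (by decide +kernel)

end Cfsg.Lib.Fi.M23
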