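import Cfsg.Agent.Lib.Fi.M24G

set_option autoImplicit false
set_option maxRecDepth 1000000
set_option maxHeartbeats 0
set_option Elab.async false

namespace Cfsg.Lib.Fi.M24

open Cfsg.Lib.Calc

variable {G : Type*} [Group G] {D : Set G} {τ : ℕ → G}
noncomputable def x13 : W := (tw [(nat_lit 16), (nat_lit 1226), (nat_lit 360), (nat_lit 75), (nat_lit 16), (nat_lit 234), (nat_lit 418), (nat_lit 169)])
def x13_fx : List ℕ := [(nat_lit 0), (nat_lit 1), (nat_lit 3), (nat_lit 16), (nat_lit 202913), (nat_lit 228627)]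
theorem x13_fix : Nat.beq (F.fixM x13) (bitsM x13_fx) = true := by decide +kernel
noncomputable def F13 : GD 306936 := F.cache x13 (bitsM x13_fx)
theorem x13_ord : F.oneOK (.pow x13 13) = true := by decide +kernel
theorem x13_ne : F.neOK x13 wone (nat_lit 34) = true := by decide +kernel
theorem x13_gen : F.genOK (pws [(nat_lit 202913), (nat_lit 16), (nat_lit 0), (nat_lit 3)]) [x13] = true := by decide +kernel
theorem x13_span : F13.spanOK (F13.fixM x13) [(nat_lit 202913), (nat_lit 16), (nat_lit 0), (nat_lit 3)] (nat_lit 0x140020000000000010000801) = true := by decide +kernel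
theorem x13_c1 : F.coxOK [(nat_lit 0), (nat_lit 3)] 2 = true := by decide +kernel
theorem x13_c2 : F.coxOK [(nat_lit 202913), (nat_lit 16)] 2 = true := by decide +kernel
theorem x13_c3 : F.genOK (pws [(nat_lit 0), (nat_lit 3)]) (pws [(nat_lit 202913), (nat_lit 16)]) = true := by decide +kernel
noncomputable def c13_lv : List Lev := [
  ⟨(nat_lit 75), [x13], (nat_lit 0x300004002c0004002800040024000400200004001c0004001800040014000400100004000c000400080004000400040c), 13, (.diff (.and (.and (.adj wone (nat_lit 3)) (.adj wone (nat_lit 4))) (.adj wone (nat_lit 2))) (.fix (.l (nat_lit 0)))), (nat_lit 0x544000405400004053c0004053800040534000405300004052c0004052800040524000405200004051c0004051800040514000405100004050c000405080004050400040500000404fc000404f8000404f4000404f0000404ec000404e8000404e4000404e0000404dc000404d8000404d4000404d0000404cc000404c8000404c4000404c0000404bc000404b8000404b4000404b0000404ac000404a8000404a4000404a0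0004049c0004049800040494000404900004048c0004048800040484000404800004047c0004047800040474000404700004046c0004046800040464000404600004045c0004045800040454000404500004044c0004044800040444000404400004043c0004043800040434000404300004042c0004042800040424000404200004041c0004041800040414000404100004040c000404080004040400040400000403fc000403f8000403f4000403f0000403ec000403e8000403e4000403e0000403dc000403d8000403d4000403d0000403cc000403c8000403c4000403c0000403bc000403b8000403b4000403b0000403ac000403a8000403a4000403a00004039c0004039800040394000403900004038c0004038800040384000403800004037c0004037800040374000403700004036c0004036800040364000403600004035c0004035800040354000403500004034c0004034800040344000403400004033c0004033800040334000403300004032c0004032800040324000403200004031c0004031800040314000403100004030c000403080004030400040300000402fc000402f8000402f4000402f0000402ec000402e8000402e4000402e0000402dc000402d8000402d4000402d0000402cc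000402c8000402c4000402c0000402bc000402b8000402b4000402b0000402ac000402a8000402a4000402a00004029c0004029800040294000402900004028c0004028800040284000402800004027c0004027800040274000402700004026c0004026800040264000402600004025c0004025800040254000402500004024c0004024800040244000402400004023c0004023800040234000402300004022c0004022800040224000402200004021c0004021800040214000402100004020c000402080004020400040200000401fc000401f8000401f4000401f0000401ec000401e8000401e4000401e0000401dc000401d8000401d4000401d0000401cc000401c8000401c4000401c0000401bc000401b8000401b4000401b0000401ac000401a8000401a4000401a00004019c0004019800040194000401900004018c0004018800040184000401800004017c0004017800040174000401700004016c0004016800040164000401600004015c0004015800040154000401500004014c0004014800040144000401400004013c0004013800040134000401300004012c0004012800040124000401200004011c0004011800040114000401100004010c000401080004010400040100000400fc000400f8000400f4000400f0000400ec000400e8000400e4000400e0000400dc000400d8000400d4000400d0000400cc000400c8000400c4000400c0000400bc000400b8000400b4000400b0000400ac000400a8000400a4000400a00004009c0004009800040094000400900004008c0004008800040084000400800004007c0004007800040074000400700004006c0004006800040c),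 [.pt (nat_lit 110) (.mul (.inv (.l (nat_lit 1))) (.mul (.l (nat_lit 0)) (.mul (.inv (.l (nat_lit 1))) (.mul (.l (nat_lit 0)) (.mul (.l (nat_lit 1)) (.mul (.l (nat_lit 0)) (.l (nat_lit 1)))))))), .pt (nat_lit 112) (.mul (.inv (.l (nat_lit 1))) (.mul (.inv (.l (nat_lit 1))) (.mul (.l (nat_lit 0)) (.mul (.l (nat_lit 1)) (.l (nat_lit 1)))))), .pt (nat_lit 1226) (.mul (.l (nat_lit 1)) (.mul (.l (nat_lit 1)) (.mul (.l (nat_lit 1)) (.mul (.l (nat_lit 0)) (.mul (.inv (.l (nat_lit 1))) (.mul (.inv (.l (nat_lit 1))) (.inv (.l (nat_lit 1))))))))), .pt (nat_lit 896) (.mul (.inv (.l (nat_lit 1))) (.mul (.l (nat_lit 0)) (.l (nat_lit 1)))), .pt (nat_lit 167) (.mul (.inv (.l (nat_lit 1))) (.mul (.l (nat_lit 0)) (.mul (.inv (.l (nat_lit 1))) (.mul (.l (nat_lit 0)) (.mul (.l (nat_lit 1)) (.mul (.l (nat_lit 0)) (.l (nat_lit 1)))))))), .pt (nat_lit 169) (.mul (.l (nat_lit 1)) (.mul (.l (nat_lit 0)) (.inv (.l (nat_lit 1))))), .pt (nat_lit 233)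 (.mul (.inv (.l (nat_lit 1))) (.mul (.l (nat_lit 0)) (.mul (.inv (.l (nat_lit 1))) (.mul (.l (nat_lit 0)) (.mul (.l (nat_lit 1)) (.mul (.l (nat_lit 0)) (.l (nat_lit 1)))))))), .pt (nat_lit 646) (.mul (.l (nat_lit 1)) (.mul (.l (nat_lit 0)) (.inv (.l (nat_lit 1))))), .pt (nat_lit 347) (.mul (.l (nat_lit 1)) (.mul (.l (nat_lit 0)) (.inv (.l (nat_lit 1))))), .pt (nat_lit 307) (.mul (.inv (.l (nat_lit 1))) (.mul (.inv (.l (nat_lit 1))) (.mul (.l (nat_lit 0)) (.mul (.l (nat_lit 1)) (.l (nat_lit 1)))))), .pt (nat_lit 308) (.mul (.l (nat_lit 1)) (.mul (.l (nat_lit 1)) (.mul (.l (nat_lit 0)) (.mul (.inv (.l (nat_lit 1))) (.inv (.l (nat_lit 1))))))), .pt (nat_lit 9708) (.mul (.l (nat_lit 1)) (.mul (.l (nat_lit 1)) (.mul (.l (nat_lit 0)) (.mul (.inv (.l (nat_lit 1))) (.inv (.l (nat_lit 1))))))), .pt (nat_lit 3999) (.mul (.inv (.l (nat_lit 1))) (.mul (.l (nat_lit 0)) (.mul (.inv (.l (nat_lit 1))) (.mul (.l (nat_lit 0)) (.mul (.l (nat_lit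 1)) (.mul (.l (nat_lit 0)) (.l (nat_lit 1)))))))), .pt (nat_lit 426) (.mul (.l (nat_lit 1)) (.mul (.l (nat_lit 0)) (.mul (.l (nat_lit 1)) (.mul (.l (nat_lit 0)) (.mul (.inv (.l (nat_lit 1))) (.mul (.l (nat_lit 0)) (.inv (.l (nat_lit 1))))))))), .pt (nat_lit 452) (.mul (.inv (.l (nat_lit 1))) (.mul (.inv (.l (nat_lit 1))) (.mul (.l (nat_lit 0)) (.mul (.l (nat_lit 1)) (.l (nat_lit 1)))))), .pt (nat_lit 454) (.mul (.l (nat_lit 1)) (.mul (.l (nat_lit 1)) (.mul (.l (nat_lit 1)) (.mul (.l (nat_lit 0)) (.mul (.inv (.l (nat_lit 1))) (.mul (.inv (.l (nat_lit 1))) (.inv (.l (nat_lit 1))))))))), .pt (nat_lit 57504) (.mul (.l (nat_lit 1)) (.mul (.l (nat_lit 1)) (.mul (.l (nat_lit 0)) (.mul (.inv (.l (nat_lit 1))) (.inv (.l (nat_lit 1))))))), .pt (nat_lit 706) (.mul (.inv (.l (nat_lit 1))) (.mul (.l (nat_lit 2)) (.mul (.l (nat_lit 3)) (.mul (.l (nat_lit 0)) (.mul (.inv (.l (nat_lit 1))) (.mul (.l (nat_lit 2)) (.mul (.l (nat_lit 0)) (.mul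 (.l (nat_lit 2)) (.mul (.l (nat_lit 1)) (.mul (.l (nat_lit 0)) (.mul (.l (nat_lit 3)) (.mul (.l (nat_lit 2)) (.l (nat_lit 1)))))))))))))), .pt (nat_lit 46557) (.mul (.inv (.l (nat_lit 1))) (.mul (.l (nat_lit 0)) (.l (nat_lit 1)))), .pt (nat_lit 4395) (.mul (.l (nat_lit 1)) (.mul (.l (nat_lit 0)) (.inv (.l (nat_lit 1))))), .pt (nat_lit 29625) (.mul (.inv (.l (nat_lit 1))) (.mul (.l (nat_lit 0)) (.l (nat_lit 1)))), .pt (nat_lit 1139) (.mul (.l (nat_lit 1)) (.mul (.l (nat_lit 0)) (.inv (.l (nat_lit 1))))), .pt (nat_lit 1524) (.mul (.inv (.l (nat_lit 1))) (.mul (.l (nat_lit 2)) (.mul (.l (nat_lit 3)) (.mul (.l (nat_lit 0)) (.mul (.inv (.l (nat_lit 1))) (.mul (.l (nat_lit 2)) (.mul (.l (nat_lit 0)) (.mul (.l (nat_lit 2)) (.mul (.l (nat_lit 1)) (.mul (.l (nat_lit 0)) (.mul (.l (nat_lit 3)) (.mul (.l (nat_lit 2)) (.l (nat_lit 1)))))))))))))), .pt (nat_lit 1526) (.mul (.inv (.l (nat_lit 1))) (.mul (.l (nat_lit 2)) (.mul (.l (nat_lit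 3)) (.mul (.l (nat_lit 0)) (.mul (.inv (.l (nat_lit 1))) (.mul (.l (nat_lit 2)) (.mul (.l (nat_lit 0)) (.mul (.l (nat_lit 2)) (.mul (.l (nat_lit 1)) (.mul (.l (nat_lit 0)) (.mul (.l (nat_lit 3)) (.mul (.l (nat_lit 2)) (.l (nat_lit 1)))))))))))))), .pt (nat_lit 57502) (.mul (.l (nat_lit 1)) (.mul (.l (nat_lit 0)) (.inv (.l (nat_lit 1))))), .pt (nat_lit 2027) (.mul (.l (nat_lit 1)) (.mul (.l (nat_lit 0)) (.mul (.l (nat_lit 1)) (.mul (.l (nat_lit 0)) (.mul (.inv (.l (nat_lit 1))) (.mul (.l (nat_lit 0)) (.inv (.l (nat_lit 1)))))))))]⟩,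
  ⟨(nat_lit 34), [], (nat_lit 0), 1, (.pnt (.mul (.l (nat_lit 0)) (.mul (.l (nat_lit 2)) (.mul (.l (nat_lit 0)) (.mul (.l (nat_lit 1)) (.mul (.l (nat_lit 1)) (.mul (.l (nat_lit 0)) (.mul (.l (nat_lit 1)) (.l (nat_lit 0))))))))) (nat_lit 2)), (nat_lit 0), []⟩,
  ⟨(nat_lit 167), [], (nat_lit 0), 1, (.pnt (.mul (.l (nat_lit 1)) (.mul (.l (nat_lit 0)) (.mul (.l (nat_lit 3)) (.mul (.l (nat_lit 0)) (.mul (.l (nat_lit 1)) (.mul (.l (nat_lit 4)) (.mul (.l (nat_lit 0)) (.mul (.l (nat_lit 2)) (.l (nat_lit 1)))))))))) (nat_lit 3)), (nat_lit 0), []⟩,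
  ⟨(nat_lit 97924), [], (nat_lit 0), 1, (.diff (.diff (.diff (.diff (.diff (.diff (.diff (.diff (.diff (.diff (.diff (.diff (.diff (.diff (.diff (.and (.and (.adj (.mul (.l (nat_lit 2)) (.l (nat_lit 1))) (nat_lit 5)) (.adj (.mul (.l (nat_lit 1)) (.l (nat_lit 4))) (nat_lit 5))) (.adj (.mul (.l (nat_lit 2)) (.mul (.l (nat_lit 0)) (.l (nat_lit 4)))) (nat_lit 5))) (.adj wone (nat_lit 5))) (.adj wone (nat_lit 1))) (.adj wone (nat_lit 2))) (.adj wone (nat_lit 0))) (.adj wone (nat_lit 4))) (.adj (.l (nat_lit 0)) (nat_lit 2))) (.adj wone (nat_lit 6))) (.adj wone (nat_lit 7))) (.adj (.mul (.l (nat_lit 0)) (.l (nat_lit 2))) (nat_lit 4))) (.adj (.mul (.l (nat_lit 0)) (.mul (.l (nat_lit 4)) (.l (nat_lit 1)))) (nat_lit 2))) (.adj (.l (nat_lit 6)) (nat_lit 7))) (.adj (.l (nat_lit 0)) (nat_lit 4))) (.adj (.mul (.l (nat_lit 0)) (.l (nat_lit 1))) (nat_lit 2))) (.adj (.mul (.l (nat_lit 1)) (.l (nat_lit 2))) (nat_lit 4))) (.adj (.mul (.l (nat_lit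 1)) (.mul (.l (nat_lit 4)) (.l (nat_lit 0)))) (nat_lit 2))), (nat_lit 0), [.pt (nat_lit 42255) (.mul (.l (nat_lit 3)) (.mul (.l (nat_lit 4)) (.mul (.l (nat_lit 0)) (.mul (.inv (.l (nat_lit 4))) (.l (nat_lit 3)))))), .pt (nat_lit 53509) (.mul (.l (nat_lit 2)) (.mul (.inv (.l (nat_lit 4))) (.mul (.l (nat_lit 0)) (.mul (.l (nat_lit 4)) (.l (nat_lit 2)))))), .pt (nat_lit 53510) (.mul (.l (nat_lit 4)) (.mul (.l (nat_lit 2)) (.mul (.l (nat_lit 0)) (.mul (.l (nat_lit 2)) (.inv (.l (nat_lit 4))))))), .pt (nat_lit 53535) (.mul (.inv (.l (nat_lit 4))) (.mul (.l (nat_lit 3)) (.mul (.l (nat_lit 0)) (.mul (.l (nat_lit 3)) (.l (nat_lit 4)))))), .pt (nat_lit 62589) (.mul (.inv (.l (nat_lit 4))) (.mul (.l (nat_lit 3)) (.mul (.l (nat_lit 0)) (.mul (.l (nat_lit 3)) (.l (nat_lit 4)))))), .pt (nat_lit 66979) (.mul (.l (nat_lit 3)) (.mul (.l (nat_lit 4)) (.mul (.l (nat_lit 0)) (.mul (.inv (.l (nat_lit 4))) (.l (nat_lit 3)))))), .pt (nat_lit 81368)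 (.mul (.l (nat_lit 8)) (.mul (.l (nat_lit 4)) (.mul (.l (nat_lit 6)) (.mul (.l (nat_lit 0)) (.mul (.l (nat_lit 6)) (.mul (.inv (.l (nat_lit 4))) (.l (nat_lit 8)))))))), .pt (nat_lit 89366) (.mul (.l (nat_lit 7)) (.mul (.l (nat_lit 6)) (.mul (.inv (.l (nat_lit 4))) (.mul (.l (nat_lit 0)) (.mul (.l (nat_lit 4)) (.mul (.l (nat_lit 6)) (.l (nat_lit 7)))))))), .pt (nat_lit 98977) (.mul (.inv (.l (nat_lit 4))) (.mul (.l (nat_lit 7)) (.mul (.l (nat_lit 6)) (.mul (.l (nat_lit 0)) (.mul (.l (nat_lit 6)) (.mul (.l (nat_lit 7)) (.l (nat_lit 4)))))))), .pt (nat_lit 107577) (.mul (.l (nat_lit 8)) (.mul (.l (nat_lit 2)) (.mul (.l (nat_lit 4)) (.mul (.l (nat_lit 0)) (.mul (.inv (.l (nat_lit 4))) (.mul (.l (nat_lit 2)) (.l (nat_lit 8)))))))), .pt (nat_lit 117057) (.mul (.l (nat_lit 4)) (.mul (.l (nat_lit 7)) (.mul (.l (nat_lit 8)) (.mul (.l (nat_lit 0)) (.mul (.l (nat_lit 8)) (.mul (.l (nat_lit 7)) (.inv (.l (nat_lit 4))))))))), .pt (nat_lit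 123963) (.mul (.l (nat_lit 6)) (.mul (.l (nat_lit 7)) (.mul (.l (nat_lit 4)) (.mul (.l (nat_lit 0)) (.mul (.inv (.l (nat_lit 4))) (.mul (.l (nat_lit 7)) (.l (nat_lit 6)))))))), .pt (nat_lit 129775) (.mul (.inv (.l (nat_lit 4))) (.mul (.l (nat_lit 7)) (.mul (.l (nat_lit 6)) (.mul (.l (nat_lit 0)) (.mul (.l (nat_lit 6)) (.mul (.l (nat_lit 7)) (.l (nat_lit 4)))))))), .pt (nat_lit 138350) (.mul (.l (nat_lit 5)) (.mul (.l (nat_lit 4)) (.mul (.l (nat_lit 1)) (.mul (.l (nat_lit 0)) (.mul (.l (nat_lit 1)) (.mul (.inv (.l (nat_lit 4))) (.l (nat_lit 5)))))))), .pt (nat_lit 144207) (.mul (.l (nat_lit 3)) (.mul (.l (nat_lit 4)) (.mul (.l (nat_lit 2)) (.mul (.l (nat_lit 0)) (.mul (.l (nat_lit 2)) (.mul (.inv (.l (nat_lit 4))) (.l (nat_lit 3)))))))), .pt (nat_lit 151322) (.mul (.inv (.l (nat_lit 4))) (.mul (.l (nat_lit 0)) (.mul (.l (nat_lit 1)) (.mul (.l (nat_lit 0)) (.mul (.l (nat_lit 1)) (.mul (.l (nat_lit 0)) (.l (nat_lit 4)))))))),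 .pt (nat_lit 160458) (.mul (.l (nat_lit 2)) (.mul (.l (nat_lit 0)) (.mul (.inv (.l (nat_lit 4))) (.mul (.l (nat_lit 0)) (.mul (.l (nat_lit 4)) (.mul (.l (nat_lit 0)) (.l (nat_lit 2)))))))), .pt (nat_lit 198443) (.mul (.l (nat_lit 7)) (.mul (.l (nat_lit 4)) (.mul (.l (nat_lit 0)) (.mul (.inv (.l (nat_lit 4))) (.l (nat_lit 7)))))), .pt (nat_lit 217015) (.mul (.l (nat_lit 8)) (.mul (.l (nat_lit 4)) (.mul (.l (nat_lit 0)) (.mul (.inv (.l (nat_lit 4))) (.l (nat_lit 8)))))), .pt (nat_lit 223869) (.mul (.l (nat_lit 7)) (.mul (.l (nat_lit 4)) (.mul (.l (nat_lit 0)) (.mul (.inv (.l (nat_lit 4))) (.l (nat_lit 7)))))), .pt (nat_lit 223870) (.mul (.inv (.l (nat_lit 4))) (.mul (.l (nat_lit 2)) (.mul (.l (nat_lit 5)) (.mul (.l (nat_lit 0)) (.mul (.l (nat_lit 5)) (.mul (.l (nat_lit 2)) (.l (nat_lit 4)))))))), .pt (nat_lit 239243) (.mul (.l (nat_lit 8)) (.mul (.inv (.l (nat_lit 4))) (.mul (.l (nat_lit 0)) (.mul (.l (nat_lit 4)) (.l (nat_lit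 8)))))), .pt (nat_lit 248821) (.mul (.inv (.l (nat_lit 4))) (.mul (.l (nat_lit 7)) (.mul (.l (nat_lit 6)) (.mul (.l (nat_lit 0)) (.mul (.l (nat_lit 6)) (.mul (.l (nat_lit 7)) (.l (nat_lit 4))))))))]⟩]
theorem c13_ok : F13.certOK c13_lv [x13, (.l (nat_lit 202913)), (.l (nat_lit 16)), (.l (nat_lit 0)), (.l (nat_lit 3))] = true := by decide +kernel

end Cfsg.Lib.Fi.M24
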