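import Cfsg.Agent.Lib.Fi.LfS
import Cfsg.Agent.Lib.Mult.A6

set_option autoImplicit false
set_option maxRecDepth 1000000
set_option maxHeartbeats 0
set_option Elab.async false

namespace Cfsg.Lib.Fi.M24

open Cfsg.Lib.Calc

variable {G : Type*} [Group G] {D : Set G} {τ : ℕ → G}
noncomputable def v45 : W := (tw [(nat_lit 0), (nat_lit 8), (nat_lit 87475), (nat_lit 646)])
noncomputable def u45 : W := (tw [(nat_lit 0), (nat_lit 34), (nat_lit 51639), (nat_lit 646)])
def xv45_fx : List ℕ := [(nat_lit 0), (nat_lit 8), (nat_lit 34), (nat_lit 50), (nat_lit 72), (nat_lit 74), (nat_lit 75), (nat_lit 109), (nat_lit 110), (nat_lit 111), (nat_lit 112), (nat_lit 154), (nat_lit 157), (nat_lit 164), (nat_lit 165), (nat_lit 166), (nat_lit 167), (nat_lit 168), (nat_lit 169), (nat_lit 237), (nat_lit 240), (nat_lit 246), (nat_lit 247), (nat_lit 248), (nat_lit 350), (nat_lit 354), (nat_lit 359), (nat_lit 360), (nat_lit 503), (nat_lit 505), (nat_lit 520), (nat_lit 553), (nat_lit 630), (nat_lit 646), (nat_lit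 700), (nat_lit 701), (nat_lit 716), (nat_lit 729), (nat_lit 762), (nat_lit 776), (nat_lit 882), (nat_lit 967), (nat_lit 976), (nat_lit 979), (nat_lit 983), (nat_lit 1000), (nat_lit 1038), (nat_lit 1047), (nat_lit 1065), (nat_lit 1212), (nat_lit 1311), (nat_lit 1314), (nat_lit 1324), (nat_lit 1328), (nat_lit 1334), (nat_lit 1340), (nat_lit 1361), (nat_lit 1410), (nat_lit 1423), (nat_lit 1449), (nat_lit 1652), (nat_lit 1770), (nat_lit 1773), (nat_lit 1778), (nat_lit 1789), (nat_lit 1792), (nat_lit 1798), (nat_lit 1807), (nat_lit 1815), (nat_lit 1841), (nat_lit 1845), (nat_lit 1910), (nat_lit 1929), (nat_lit 1964), (nat_lit 1970), (nat_lit 2253), (nat_lit 2256), (nat_lit 2398), (nat_lit 2403), (nat_lit 2411), (nat_lit 2425), (nat_lit 2430), (nat_lit 2439), (nat_lit 2451), (nat_lit 2459), (nat_lit 2463), (nat_lit 2504), (nat_lit 2599), (nat_lit 2622), (nat_lit 2628), (nat_lit 2685), (nat_lit 3089), (nat_lit 3261), (nat_lit 3269), (nat_lit 3278), (nat_lit 3281), (nat_lit 3300), (nat_lit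 3308), (nat_lit 3318), (nat_lit 3322), (nat_lit 3334), (nat_lit 3337), (nat_lit 3350), (nat_lit 3421), (nat_lit 3549), (nat_lit 3555), (nat_lit 3592), (nat_lit 3689), (nat_lit 3771), (nat_lit 4254), (nat_lit 4433), (nat_lit 4443), (nat_lit 4446), (nat_lit 4459), (nat_lit 4492), (nat_lit 4502), (nat_lit 4505), (nat_lit 4520), (nat_lit 4543), (nat_lit 4569), (nat_lit 4689), (nat_lit 4861), (nat_lit 4926), (nat_lit 5079), (nat_lit 5165), (nat_lit 5980), (nat_lit 5983), (nat_lit 5998), (nat_lit 6022), (nat_lit 6072), (nat_lit 6075), (nat_lit 6090), (nat_lit 6118), (nat_lit 6153), (nat_lit 6203), (nat_lit 6388), (nat_lit 6621), (nat_lit 6729), (nat_lit 6948), (nat_lit 7971), (nat_lit 7995), (nat_lit 8039), (nat_lit 8110), (nat_lit 8136), (nat_lit 8188), (nat_lit 8241), (nat_lit 8325), (nat_lit 8901), (nat_lit 9067), (nat_lit 10469), (nat_lit 10510), (nat_lit 10580), (nat_lit 10667), (nat_lit 10712), (nat_lit 10798), (nat_lit 10876), (nat_lit 11284), (nat_lit 11786), (nat_lit 13602), (nat_lit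 13666), (nat_lit 13876), (nat_lit 13948), (nat_lit 14749), (nat_lit 17549), (nat_lit 17927), (nat_lit 18981), (nat_lit 19141), (nat_lit 19146), (nat_lit 24453), (nat_lit 24565), (nat_lit 24575), (nat_lit 24577), (nat_lit 24767), (nat_lit 24776), (nat_lit 24782), (nat_lit 29531), (nat_lit 29574), (nat_lit 31488), (nat_lit 31496), (nat_lit 31644), (nat_lit 31655), (nat_lit 31665), (nat_lit 31667), (nat_lit 31677), (nat_lit 31905), (nat_lit 31911), (nat_lit 31916), (nat_lit 31922), (nat_lit 37646), (nat_lit 37699), (nat_lit 37700), (nat_lit 40256), (nat_lit 40265), (nat_lit 40273), (nat_lit 40456), (nat_lit 40474), (nat_lit 40485), (nat_lit 40487), (nat_lit 40488), (nat_lit 40496), (nat_lit 40498), (nat_lit 40509), (nat_lit 40788), (nat_lit 40794), (nat_lit 40806), (nat_lit 47617), (nat_lit 47675), (nat_lit 47676), (nat_lit 47677), (nat_lit 50991), (nat_lit 51005), (nat_lit 51014), (nat_lit 51016), (nat_lit 51023), (nat_lit 51250), (nat_lit 51259), (nat_lit 51268), (nat_lit 51278), (nat_lit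 51280), (nat_lit 51281), (nat_lit 51292), (nat_lit 51293), (nat_lit 51304), (nat_lit 51628), (nat_lit 51630), (nat_lit 51639), (nat_lit 51645), (nat_lit 56833), (nat_lit 59722), (nat_lit 59723), (nat_lit 59724), (nat_lit 63363), (nat_lit 63921), (nat_lit 63928), (nat_lit 63935), (nat_lit 63942), (nat_lit 63944), (nat_lit 63954), (nat_lit 64208), (nat_lit 64217), (nat_lit 64236), (nat_lit 64238), (nat_lit 64249), (nat_lit 64250), (nat_lit 64651), (nat_lit 64652), (nat_lit 64653), (nat_lit 64874), (nat_lit 70111), (nat_lit 73980), (nat_lit 73981), (nat_lit 78511), (nat_lit 78512), (nat_lit 78513), (nat_lit 78742), (nat_lit 79166), (nat_lit 79181), (nat_lit 79191), (nat_lit 79463), (nat_lit 79490), (nat_lit 79954), (nat_lit 87475), (nat_lit 90399), (nat_lit 95862), (nat_lit 223929), (nat_lit 234688), (nat_lit 248799), (nat_lit 248864), (nat_lit 248886), (nat_lit 248893), (nat_lit 248894), (nat_lit 248895), (nat_lit 252471), (nat_lit 258507), (nat_lit 258950), (nat_lit 258988), (nat_lit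 270538), (nat_lit 270639), (nat_lit 270684), (nat_lit 270713), (nat_lit 270716), (nat_lit 270717), (nat_lit 270718), (nat_lit 270778), (nat_lit 270785), (nat_lit 270786), (nat_lit 270808), (nat_lit 270809), (nat_lit 270810), (nat_lit 270817), (nat_lit 270818), (nat_lit 270820), (nat_lit 270821), (nat_lit 270822), (nat_lit 273743), (nat_lit 273816), (nat_lit 273826), (nat_lit 278410), (nat_lit 278424), (nat_lit 278720), (nat_lit 278774), (nat_lit 278801), (nat_lit 278806), (nat_lit 278841), (nat_lit 280848), (nat_lit 286777), (nat_lit 286792), (nat_lit 286837), (nat_lit 286840), (nat_lit 286841), (nat_lit 286842), (nat_lit 286936), (nat_lit 286938), (nat_lit 286939), (nat_lit 286980), (nat_lit 286982), (nat_lit 287004), (nat_lit 287005), (nat_lit 287007), (nat_lit 287008), (nat_lit 287010), (nat_lit 287011), (nat_lit 287069), (nat_lit 287070), (nat_lit 287077), (nat_lit 287078), (nat_lit 287079), (nat_lit 287097), (nat_lit 287098), (nat_lit 287100), (nat_lit 287101), (nat_lit 287105),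 (nat_lit 287106), (nat_lit 287107), (nat_lit 287108), (nat_lit 287109), (nat_lit 287110), (nat_lit 287111), (nat_lit 287113), (nat_lit 289169), (nat_lit 289178), (nat_lit 289225), (nat_lit 289229), (nat_lit 289235), (nat_lit 291750), (nat_lit 292185), (nat_lit 292209), (nat_lit 292220), (nat_lit 292435), (nat_lit 292453), (nat_lit 292485), (nat_lit 292503), (nat_lit 293188), (nat_lit 293883), (nat_lit 293886), (nat_lit 293888), (nat_lit 293957), (nat_lit 296471), (nat_lit 297092), (nat_lit 297093), (nat_lit 297108), (nat_lit 297109), (nat_lit 297160), (nat_lit 297161), (nat_lit 297163), (nat_lit 297164), (nat_lit 297165), (nat_lit 297257), (nat_lit 297259), (nat_lit 297260), (nat_lit 297295), (nat_lit 297307), (nat_lit 297309), (nat_lit 297310), (nat_lit 297312), (nat_lit 297313), (nat_lit 297314), (nat_lit 297357), (nat_lit 297358), (nat_lit 297362), (nat_lit 297363), (nat_lit 297364), (nat_lit 297365), (nat_lit 297367), (nat_lit 297378), (nat_lit 297379), (nat_lit 297381), (nat_lit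 297383), (nat_lit 297384), (nat_lit 297385), (nat_lit 297386), (nat_lit 297387), (nat_lit 297388), (nat_lit 297389), (nat_lit 297390), (nat_lit 298084), (nat_lit 298642), (nat_lit 298652), (nat_lit 298657), (nat_lit 298973), (nat_lit 299468), (nat_lit 300104), (nat_lit 300422), (nat_lit 300451), (nat_lit 300779), (nat_lit 300786), (nat_lit 300844), (nat_lit 300845), (nat_lit 301227), (nat_lit 301228), (nat_lit 301230), (nat_lit 301246), (nat_lit 301256), (nat_lit 301462), (nat_lit 301484), (nat_lit 302357), (nat_lit 302362), (nat_lit 302775), (nat_lit 302787), (nat_lit 302833), (nat_lit 302834), (nat_lit 302835), (nat_lit 302836), (nat_lit 302902), (nat_lit 302903), (nat_lit 302904), (nat_lit 302911), (nat_lit 302912), (nat_lit 302915), (nat_lit 302916), (nat_lit 302917), (nat_lit 302931), (nat_lit 302933), (nat_lit 302934), (nat_lit 302935), (nat_lit 302936), (nat_lit 302937), (nat_lit 302941), (nat_lit 302942), (nat_lit 302943), (nat_lit 302944), (nat_lit 303106), (nat_lit 303113),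 (nat_lit 303246), (nat_lit 303694), (nat_lit 303785), (nat_lit 303786), (nat_lit 304310), (nat_lit 304334), (nat_lit 304497), (nat_lit 304607), (nat_lit 304611), (nat_lit 304732), (nat_lit 304769), (nat_lit 304770), (nat_lit 304775), (nat_lit 304864), (nat_lit 304874), (nat_lit 304877), (nat_lit 304878), (nat_lit 304889), (nat_lit 305014), (nat_lit 305123), (nat_lit 305125), (nat_lit 305126), (nat_lit 305365), (nat_lit 305366), (nat_lit 305370), (nat_lit 305371), (nat_lit 305394), (nat_lit 305395), (nat_lit 305431), (nat_lit 305432), (nat_lit 305530), (nat_lit 305844), (nat_lit 305993), (nat_lit 306022), (nat_lit 306025), (nat_lit 306030), (nat_lit 306073), (nat_lit 306078), (nat_lit 306111), (nat_lit 306137), (nat_lit 306138), (nat_lit 306166), (nat_lit 306168), (nat_lit 306171), (nat_lit 306172), (nat_lit 306173), (nat_lit 306188), (nat_lit 306189), (nat_lit 306387), (nat_lit 306618), (nat_lit 306621), (nat_lit 306623), (nat_lit 306625), (nat_lit 306626), (nat_lit 306628), (nat_lit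 306634), (nat_lit 306635), (nat_lit 306636), (nat_lit 306637), (nat_lit 306837), (nat_lit 306838)]
theorem xv45_fix : Nat.beq (Fz4.fixM v45) (bitsM xv45_fx) = true := by decide +kernel
noncomputable def Fv45 : GD 306936 := Fz4.cache v45 (bitsM xv45_fx)
def xu45_fx : List ℕ := [(nat_lit 0), (nat_lit 8), (nat_lit 34), (nat_lit 154), (nat_lit 157), (nat_lit 164), (nat_lit 167), (nat_lit 169), (nat_lit 237), (nat_lit 240), (nat_lit 246), (nat_lit 248), (nat_lit 350), (nat_lit 354), (nat_lit 359), (nat_lit 360), (nat_lit 520), (nat_lit 553), (nat_lit 630), (nat_lit 646), (nat_lit 687), (nat_lit 729), (nat_lit 776), (nat_lit 882), (nat_lit 937), (nat_lit 944), (nat_lit 947), (nat_lit 948), (nat_lit 1000), (nat_lit 1065), (nat_lit 1212), (nat_lit 1269), (nat_lit 1277), (nat_lit 1280), (nat_lit 1281), (nat_lit 1290), (nat_lit 1291), (nat_lit 1295), (nat_lit 1306), (nat_lit 1720), (nat_lit 1723), (nat_lit 1724), (nat_lit 1736), (nat_lit 1737), (nat_lit 1741), (nat_lit 1754), (nat_lit 1761),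 (nat_lit 1767), (nat_lit 1770), (nat_lit 1789), (nat_lit 2341), (nat_lit 2342), (nat_lit 2346), (nat_lit 2367), (nat_lit 2392), (nat_lit 2393), (nat_lit 2398), (nat_lit 2425), (nat_lit 3029), (nat_lit 3094), (nat_lit 3199), (nat_lit 3257), (nat_lit 3258), (nat_lit 3261), (nat_lit 3300), (nat_lit 3421), (nat_lit 3689), (nat_lit 3771), (nat_lit 4054), (nat_lit 4171), (nat_lit 4178), (nat_lit 4254), (nat_lit 4258), (nat_lit 4259), (nat_lit 4429), (nat_lit 4689), (nat_lit 5079), (nat_lit 5151), (nat_lit 5165), (nat_lit 5521), (nat_lit 5581), (nat_lit 5602), (nat_lit 5616), (nat_lit 5758), (nat_lit 5833), (nat_lit 5971), (nat_lit 6388), (nat_lit 6948), (nat_lit 7148), (nat_lit 7519), (nat_lit 7546), (nat_lit 7607), (nat_lit 7636), (nat_lit 7650), (nat_lit 7654), (nat_lit 7659), (nat_lit 7879), (nat_lit 7881), (nat_lit 7882), (nat_lit 8847), (nat_lit 9486), (nat_lit 9588), (nat_lit 9593), (nat_lit 10174), (nat_lit 10179), (nat_lit 10184), (nat_lit 10202), (nat_lit 10207), (nat_lit 10425),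 (nat_lit 10428), (nat_lit 10429), (nat_lit 10430), (nat_lit 10469), (nat_lit 10667), (nat_lit 11284), (nat_lit 11643), (nat_lit 11701), (nat_lit 11706), (nat_lit 12494), (nat_lit 12648), (nat_lit 12802), (nat_lit 13328), (nat_lit 13333), (nat_lit 13580), (nat_lit 13584), (nat_lit 13602), (nat_lit 13876), (nat_lit 14749), (nat_lit 15208), (nat_lit 15311), (nat_lit 16685), (nat_lit 17549), (nat_lit 17927), (nat_lit 18785), (nat_lit 19146), (nat_lit 19588), (nat_lit 19594), (nat_lit 20355), (nat_lit 23105), (nat_lit 23498), (nat_lit 24254), (nat_lit 24297), (nat_lit 24298), (nat_lit 24299), (nat_lit 24301), (nat_lit 24314), (nat_lit 25177), (nat_lit 25367), (nat_lit 25368), (nat_lit 25376), (nat_lit 25778), (nat_lit 26168), (nat_lit 26376), (nat_lit 29531), (nat_lit 29624), (nat_lit 29625), (nat_lit 29797), (nat_lit 30232), (nat_lit 30233), (nat_lit 30727), (nat_lit 31256), (nat_lit 31257), (nat_lit 31290), (nat_lit 31291), (nat_lit 31293), (nat_lit 31294), (nat_lit 31296), (nat_lit 31298),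 (nat_lit 31311), (nat_lit 31644), (nat_lit 32449), (nat_lit 32704), (nat_lit 32706), (nat_lit 32717), (nat_lit 33276), (nat_lit 33289), (nat_lit 33293), (nat_lit 33298), (nat_lit 33813), (nat_lit 33815), (nat_lit 36676), (nat_lit 37646), (nat_lit 37690), (nat_lit 37756), (nat_lit 38021), (nat_lit 38022), (nat_lit 38651), (nat_lit 39306), (nat_lit 39985), (nat_lit 39987), (nat_lit 40011), (nat_lit 40014), (nat_lit 40016), (nat_lit 40019), (nat_lit 40023), (nat_lit 40035), (nat_lit 40256), (nat_lit 40456), (nat_lit 40474), (nat_lit 40485), (nat_lit 40487), (nat_lit 40488), (nat_lit 40645), (nat_lit 41506), (nat_lit 41844), (nat_lit 42602), (nat_lit 42605), (nat_lit 42608), (nat_lit 42626), (nat_lit 42631), (nat_lit 42634), (nat_lit 42639), (nat_lit 43304), (nat_lit 45411), (nat_lit 46150), (nat_lit 46157), (nat_lit 46175), (nat_lit 46485), (nat_lit 46486), (nat_lit 47617), (nat_lit 47670), (nat_lit 47671), (nat_lit 47675), (nat_lit 48121), (nat_lit 49848), (nat_lit 50686), (nat_lit 50707),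 (nat_lit 50715), (nat_lit 50991), (nat_lit 51005), (nat_lit 51014), (nat_lit 51016), (nat_lit 51250), (nat_lit 51259), (nat_lit 51268), (nat_lit 51278), (nat_lit 51280), (nat_lit 51281), (nat_lit 51292), (nat_lit 51293), (nat_lit 51462), (nat_lit 51463), (nat_lit 51630), (nat_lit 51639), (nat_lit 51830), (nat_lit 51832), (nat_lit 54014), (nat_lit 54017), (nat_lit 54019), (nat_lit 54022), (nat_lit 54051), (nat_lit 54056), (nat_lit 54065), (nat_lit 57296), (nat_lit 57300), (nat_lit 57301), (nat_lit 57641), (nat_lit 57644), (nat_lit 58044), (nat_lit 58054), (nat_lit 58067), (nat_lit 58075), (nat_lit 58095), (nat_lit 58355), (nat_lit 58356), (nat_lit 59264), (nat_lit 59270), (nat_lit 59720), (nat_lit 59722), (nat_lit 59723), (nat_lit 61191), (nat_lit 63363), (nat_lit 63921), (nat_lit 63928), (nat_lit 63935), (nat_lit 63942), (nat_lit 63944), (nat_lit 63954), (nat_lit 64066), (nat_lit 64208), (nat_lit 64217), (nat_lit 64236), (nat_lit 64238), (nat_lit 64249), (nat_lit 64250), (nat_lit 64396),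 (nat_lit 64452), (nat_lit 64453), (nat_lit 64893), (nat_lit 64894), (nat_lit 64895), (nat_lit 67660), (nat_lit 67663), (nat_lit 67716), (nat_lit 70111), (nat_lit 71439), (nat_lit 71443), (nat_lit 71449), (nat_lit 71745), (nat_lit 71747), (nat_lit 72172), (nat_lit 72176), (nat_lit 72188), (nat_lit 72209), (nat_lit 72231), (nat_lit 72401), (nat_lit 73508), (nat_lit 73510), (nat_lit 73517), (nat_lit 73980), (nat_lit 73981), (nat_lit 75870), (nat_lit 75873), (nat_lit 75874), (nat_lit 78511), (nat_lit 78512), (nat_lit 78513), (nat_lit 78742), (nat_lit 79166), (nat_lit 79181), (nat_lit 79191), (nat_lit 79314), (nat_lit 79490), (nat_lit 79660), (nat_lit 79662), (nat_lit 79726), (nat_lit 80087), (nat_lit 80215), (nat_lit 80216), (nat_lit 87475), (nat_lit 87812), (nat_lit 88052), (nat_lit 88053), (nat_lit 88468), (nat_lit 88486), (nat_lit 89914), (nat_lit 89926), (nat_lit 90399), (nat_lit 92708), (nat_lit 92711), (nat_lit 92712), (nat_lit 92716), (nat_lit 95862), (nat_lit 96004), (nat_lit 97061),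 (nat_lit 97474), (nat_lit 97488), (nat_lit 97491), (nat_lit 97597), (nat_lit 111396), (nat_lit 111397), (nat_lit 111401), (nat_lit 115215), (nat_lit 115218), (nat_lit 116303), (nat_lit 116584), (nat_lit 116585), (nat_lit 125090), (nat_lit 131673), (nat_lit 136011), (nat_lit 136015), (nat_lit 140284), (nat_lit 146588), (nat_lit 146614), (nat_lit 146617), (nat_lit 146626), (nat_lit 146627), (nat_lit 155524), (nat_lit 162717), (nat_lit 162743), (nat_lit 162745), (nat_lit 162751), (nat_lit 162752), (nat_lit 169572), (nat_lit 169575), (nat_lit 169606), (nat_lit 169609), (nat_lit 169612), (nat_lit 169614), (nat_lit 169615), (nat_lit 169625), (nat_lit 178974), (nat_lit 179029), (nat_lit 179079), (nat_lit 179086), (nat_lit 179088), (nat_lit 179090), (nat_lit 179091), (nat_lit 186727), (nat_lit 186730), (nat_lit 186761), (nat_lit 186764), (nat_lit 186766), (nat_lit 186767), (nat_lit 186768), (nat_lit 186775), (nat_lit 194015), (nat_lit 194016), (nat_lit 194060), (nat_lit 194061), (nat_lit 194069),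 (nat_lit 194070), (nat_lit 194072), (nat_lit 197683), (nat_lit 203836), (nat_lit 203908), (nat_lit 203913), (nat_lit 203915), (nat_lit 203916), (nat_lit 203975), (nat_lit 203980), (nat_lit 203982), (nat_lit 204032), (nat_lit 204034), (nat_lit 204035), (nat_lit 204042), (nat_lit 204044), (nat_lit 204045), (nat_lit 204047), (nat_lit 204048), (nat_lit 204834), (nat_lit 212130), (nat_lit 212131), (nat_lit 212174), (nat_lit 212175), (nat_lit 212182), (nat_lit 212183), (nat_lit 212184), (nat_lit 219469), (nat_lit 219521), (nat_lit 219533), (nat_lit 223072), (nat_lit 223073), (nat_lit 223074), (nat_lit 229611), (nat_lit 229615), (nat_lit 229617), (nat_lit 229694), (nat_lit 229695), (nat_lit 229701), (nat_lit 229702), (nat_lit 229703), (nat_lit 229754), (nat_lit 229762), (nat_lit 229796), (nat_lit 229797), (nat_lit 229809), (nat_lit 229810), (nat_lit 230482), (nat_lit 230577), (nat_lit 230580), (nat_lit 230630), (nat_lit 230632), (nat_lit 233128), (nat_lit 238055), (nat_lit 238113), (nat_lit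 244086), (nat_lit 248039), (nat_lit 248040), (nat_lit 248171), (nat_lit 254486), (nat_lit 254492), (nat_lit 254550), (nat_lit 254556), (nat_lit 255193), (nat_lit 255220), (nat_lit 255221), (nat_lit 255313), (nat_lit 255316), (nat_lit 255358), (nat_lit 270114), (nat_lit 276018), (nat_lit 292395), (nat_lit 297164), (nat_lit 297260), (nat_lit 299144), (nat_lit 300374), (nat_lit 300421), (nat_lit 300422), (nat_lit 300423), (nat_lit 300424), (nat_lit 300451), (nat_lit 301620), (nat_lit 302194), (nat_lit 302787), (nat_lit 302833), (nat_lit 302834), (nat_lit 302835), (nat_lit 302836), (nat_lit 302902), (nat_lit 302903), (nat_lit 302904), (nat_lit 303023), (nat_lit 303639), (nat_lit 303891), (nat_lit 303892), (nat_lit 304426), (nat_lit 304427), (nat_lit 305370), (nat_lit 305371), (nat_lit 305394), (nat_lit 305395), (nat_lit 305459), (nat_lit 305460)]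
theorem xu45_fix : Nat.beq (Fv45.fixM u45) (bitsM xu45_fx) = true := by decide +kernel
noncomputable def Fu45 : GD 306936 := Fv45.cache u45 (bitsM xu45_fx)
theorem hv45 (h : H24 D τ) : Hs Fu45 2510411418381323442585600 D τ :=
  ((hz4 h).cache xv45_fix).cache xu45_fix
noncomputable def YR : List W := [z4, v45, u45, (tw [(nat_lit 8), (nat_lit 34)]), (tw [(nat_lit 8), (nat_lit 167)]), (tw [(nat_lit 8), (nat_lit 646)]), (tw [(nat_lit 169), (nat_lit 154)]), (tw [(nat_lit 169), (nat_lit 19146)]), (tw [(nat_lit 169), (nat_lit 164)]), (tw [(nat_lit 360), (nat_lit 350)]), (tw [(nat_lit 360), (nat_lit 1212)]), (tw [(nat_lit 360), (nat_lit 354)]), (tw [(nat_lit 302902), (nat_lit 302787)]), (tw [(nat_lit 51268), (nat_lit 78511)]), (tw [(nat_lit 40487), (nat_lit 63954)])]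
def pR_T : List (List ℕ) := [[(nat_lit 0)],
  [(nat_lit 0), (nat_lit 0)],
  [(nat_lit 0), (nat_lit 0), (nat_lit 0)],
  [(nat_lit 0), (nat_lit 0), (nat_lit 0), (nat_lit 0)],
  [(nat_lit 0), (nat_lit 0), (nat_lit 0), (nat_lit 0), (nat_lit 0)],
  [(nat_lit 0), (nat_lit 0), (nat_lit 0), (nat_lit 0), (nat_lit 0), (nat_lit 0)],
  [(nat_lit 0), (nat_lit 0), (nat_lit 0), (nat_lit 0), (nat_lit 0), (nat_lit 0), (nat_lit 0)],
  [(nat_lit 0), (nat_lit 0), (nat_lit 0), (nat_lit 0), (nat_lit 0), (nat_lit 0), (nat_lit 0), (nat_lit 0)],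
  [(nat_lit 0), (nat_lit 0), (nat_lit 0), (nat_lit 0), (nat_lit 0), (nat_lit 0), (nat_lit 0), (nat_lit 0), (nat_lit 0)],
  [(nat_lit 0), (nat_lit 0), (nat_lit 0), (nat_lit 0), (nat_lit 0), (nat_lit 0), (nat_lit 0), (nat_lit 5), (nat_lit 1), (nat_lit 0)],
  [(nat_lit 0), (nat_lit 0), (nat_lit 0), (nat_lit 0), (nat_lit 0), (nat_lit 0), (nat_lit 5), (nat_lit 5), (nat_lit 3), (nat_lit 0), (nat_lit 0)],
  [(nat_lit 0), (nat_lit 0), (nat_lit 0), (nat_lit 0), (nat_lit 0), (nat_lit 0), (nat_lit 1), (nat_lit 7), (nat_lit 1), (nat_lit 0), (nat_lit 0), (nat_lit 0)],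
  [(nat_lit 0), (nat_lit 0), (nat_lit 0), (nat_lit 1), (nat_lit 1), (nat_lit 2), (nat_lit 0), (nat_lit 0), (nat_lit 0), (nat_lit 0), (nat_lit 0), (nat_lit 0), (nat_lit 0)],
  [(nat_lit 0), (nat_lit 0), (nat_lit 0), (nat_lit 0), (nat_lit 1), (nat_lit 7), (nat_lit 1), (nat_lit 7), (nat_lit 1), (nat_lit 0), (nat_lit 0), (nat_lit 0), (nat_lit 0), (nat_lit 0)],
  [(nat_lit 0), (nat_lit 0), (nat_lit 0), (nat_lit 7), (nat_lit 5), (nat_lit 0), (nat_lit 0), (nat_lit 0), (nat_lit 0), (nat_lit 5), (nat_lit 5), (nat_lit 7), (nat_lit 2), (nat_lit 0), (nat_lit 0)]]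
def pR_low : List (ℕ × List ℕ × ℕ × ℕ) := [((nat_lit 8), [(nat_lit 4096), (nat_lit 8192), (nat_lit 16384)], (nat_lit 0x1c00100000000000180010001000180004001c03), 8),
  ((nat_lit 75), [(nat_lit 8), (nat_lit 16), (nat_lit 64), (nat_lit 128), (nat_lit 512)], (nat_lit 0x7c000800000000000000000000000000780008000000000070000c00000000006c0008000000000000000000680008000000000060000c00000000005c00080050001c00000000004c00080044000c0000000000400008000000000034001c0028004c001c002c00000000001800080004007c05), 32),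
  ((nat_lit 202913), [(nat_lit 32), (nat_lit 25), (nat_lit 2), (nat_lit 257), (nat_lit 133), (nat_lit 2561), (nat_lit 3201)], (nat_lit 0x1fc000400000000000000000000000000000000000000000000000001f4000c01f000040000000001ec0004000000000000000001e8000400000000000000000000000001e400040000000000000000000000000000000001e00004000000000000000000000000000000000000000001d4001c01cc000c01c800040000000001c0000c01bc00040000000001b80004000000000000000001b0000c01ac00040000000001a80004000000000000000001a40004000000000000000000000000019c000c019800040000000001940004000000000000000001900004000000000000000000000000018c000400000000000000000000000000000000017c003c0170001c0168000c01640004000000000158001c0150000c014c0004000000000144000c0140000400000000013c000400000000000000000130001c0128000c0124000400000000011c000c0118000400000000011400040000000000000000010c000c01080004000000000104000400000000000000000100000400000000000000000000000000ec007c00dc003c00d0001c00c8000c00c400040000000000b4003c00a8001c00a0000c009c0004000000000090001c0088000c0084000400000000007c000c0078000400000000007400040000000000000000005c00fc0048007c0038003c002c001c0024000c0020000400000000000401fc07),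 128)]
theorem pR_rel : pccOK F.eqOK YR (nat_lit 2) (nat_lit 15) pR_T = true := by decide +kernel
theorem pR_low_ok : F.lowOK (lowP YR (nat_lit 2) (nat_lit 15) pR_low) = true := by decide +kernel
theorem pccR (h : H24 D τ) : PCC (env τ YR) 2 15 := h.pcc pR_rel pR_low_ok (by decide +kernel)
theorem pcRR (h : H24 D τ) : PcR (env τ YR) 2 15 pR_T := pcR_of h.snd pR_rel
def tR : List (ℕ × ℕ × ℕ) := [((nat_lit 51016), (nat_lit 50991), (nat_lit 51259)), ((nat_lit 360), (nat_lit 350), (nat_lit 1212)), ((nat_lit 169), (nat_lit 154), (nat_lit 19146)), ((nat_lit 646), (nat_lit 8), (nat_lit 34)), ((nat_lit 167), (nat_lit 8), (nat_lit 34)), ((nat_lit 34), (nat_lit 8), (nat_lit 167)), ((nat_lit 8), (nat_lit 34), (nat_lit 167))]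
theorem tR_ok : allA tR (fun t => band (band (F.cliqueOK [t.1, t.2.1]) (F.cliqueOK [t.1, t.2.2])) (blt t.2.1 t.2.2)) = true := by decide +kernel
noncomputable def YzR : List W := tR.map (fun t => tw [t.1, t.2.1]) ++ tR.map fun t => tw [t.1, t.2.2]
theorem tR_sub : subOK F.eqOK YR YzR (nat_lit 2) (nat_lit 15) YzR.length [(nat_lit 4357), (nat_lit 512), (nat_lit 64), (nat_lit 32), (nat_lit 16), (nat_lit 8), (nat_lit 8), (nat_lit 20773), (nat_lit 1024), (nat_lit 128), (nat_lit 40), (nat_lit 24), (nat_lit 24), (nat_lit 16)] = true := by decide +kernel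
noncomputable def cWR_lv : List Lev := [
  ⟨(nat_lit 306380), [z4, v45, u45], (nat_lit 0x1c0004000000000018000400100014000000000004001c03), 8, (.diff (.diff (.diff (.diff (.diff (.diff (.diff (.diff (.diff (.diff (.diff (.and (.and (.adj wone (nat_lit 6)) (.adj wone (nat_lit 5))) (.adj (.mul (.l (nat_lit 0)) (.mul (.l (nat_lit 1)) (.mul (.l (nat_lit 3)) (.l (nat_lit 4))))) (nat_lit 0))) (.adj wone (nat_lit 4))) (.adj wone (nat_lit 1))) (.adj wone (nat_lit 3))) (.adj (.mul (.l (nat_lit 0)) (.mul (.l (nat_lit 4)) (.mul (.l (nat_lit 5)) (.l (nat_lit 6))))) (nat_lit 0))) (.adj wone (nat_lit 2))) (.adj (.mul (.l (nat_lit 0)) (.mul (.l (nat_lit 1)) (.mul (.l (nat_lit 5)) (.l (nat_lit 6))))) (nat_lit 0))) (.adj (.l (nat_lit 1)) (nat_lit 2))) (.adj wone (nat_lit 0))) (.adj (.l (nat_lit 3)) (nat_lit 0))) (.adj (.mul (.l (nat_lit 1)) (.l (nat_lit 6))) (nat_lit 0))) (.adj (.l (nat_lit 4)) (nat_lit 0))), (nat_lit 0x5c00040000000000000000005800040000000000000000005400040000000000500004004800140000000000440004003c0014000000000038000400300014000000000024001c0018001c000c001c03),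 [.pt (nat_lit 66442) (.mul (.l (nat_lit 1)) (.mul (.l (nat_lit 7)) (.mul (.l (nat_lit 5)) (.mul (.l (nat_lit 4)) (.mul (.l (nat_lit 1)) (.mul (.l (nat_lit 4)) (.mul (.l (nat_lit 5)) (.mul (.l (nat_lit 7)) (.l (nat_lit 1)))))))))), .pt (nat_lit 67540) (.mul (.l (nat_lit 1)) (.mul (.l (nat_lit 7)) (.mul (.l (nat_lit 5)) (.mul (.l (nat_lit 4)) (.mul (.l (nat_lit 1)) (.mul (.l (nat_lit 4)) (.mul (.l (nat_lit 5)) (.mul (.l (nat_lit 7)) (.l (nat_lit 1)))))))))), .pt (nat_lit 304747) (.mul (.l (nat_lit 1)) (.mul (.l (nat_lit 3)) (.mul (.l (nat_lit 6)) (.mul (.l (nat_lit 5)) (.mul (.l (nat_lit 7)) (.mul (.l (nat_lit 1)) (.mul (.l (nat_lit 0)) (.mul (.l (nat_lit 1)) (.mul (.l (nat_lit 7)) (.mul (.l (nat_lit 5)) (.mul (.l (nat_lit 6)) (.mul (.l (nat_lit 3)) (.l (nat_lit 1))))))))))))))]⟩,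
  ⟨(nat_lit 202913), [], (nat_lit 0), 1, (.diff (.and (.diff (.and (.and (.and (.adj (.mul (.l (nat_lit 3)) (.l (nat_lit 4))) (nat_lit 0)) (.adj (.mul (.l (nat_lit 2)) (.l (nat_lit 7))) (nat_lit 1))) (.adj wone (nat_lit 0))) (.adj (.mul (.l (nat_lit 2)) (.mul (.l (nat_lit 5)) (.l (nat_lit 6)))) (nat_lit 1))) (.adj wone (nat_lit 5))) (.adj (.mul (.l (nat_lit 3)) (.mul (.l (nat_lit 2)) (.l (nat_lit 6)))) (nat_lit 1))) (.adj wone (nat_lit 6))), (nat_lit 0), [.pt (nat_lit 219334) (.mul (.l (nat_lit 8)) (.mul (.l (nat_lit 7)) (.mul (.l (nat_lit 3)) (.mul (.l (nat_lit 0)) (.mul (.l (nat_lit 5)) (.mul (.l (nat_lit 4)) (.mul (.l (nat_lit 0)) (.mul (.l (nat_lit 6)) (.mul (.l (nat_lit 7)) (.mul (.l (nat_lit 0)) (.mul (.l (nat_lit 3)) (.mul (.l (nat_lit 5)) (.mul (.l (nat_lit 2)) (.mul (.l (nat_lit 1)) (.mul (.l (nat_lit 8)) (.l (nat_lit 2)))))))))))))))))]⟩,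
  ⟨(nat_lit 97924), [], (nat_lit 0), 1, (.diff (.diff (.and (.and (.and (.and (.adj (.mul (.l (nat_lit 6)) (.l (nat_lit 0))) (nat_lit 8)) (.adj (.l (nat_lit 6)) (nat_lit 2))) (.adj (.mul (.l (nat_lit 5)) (.l (nat_lit 8))) (nat_lit 2))) (.adj (.mul (.l (nat_lit 3)) (.l (nat_lit 0))) (nat_lit 2))) (.adj (.mul (.l (nat_lit 0)) (.l (nat_lit 4))) (nat_lit 1))) (.adj (.l (nat_lit 3)) (nat_lit 4))) (.adj (.mul (.l (nat_lit 3)) (.l (nat_lit 0))) (nat_lit 6))), (nat_lit 0), []⟩,
  ⟨(nat_lit 75), [], (nat_lit 0), 1, (.diff (.diff (.and (.and (.and (.and (.adj wone (nat_lit 9)) (.adj wone (nat_lit 4))) (.adj wone (nat_lit 6))) (.adj (.l (nat_lit 0)) (nat_lit 2))) (.adj wone (nat_lit 3))) (.adj wone (nat_lit 8))) (.adj (.l (nat_lit 1)) (nat_lit 8))), (nat_lit 0), [.pt (nat_lit 8110) (.mul (.l (nat_lit 2)) (.mul (.l (nat_lit 8)) (.mul (.l (nat_lit 1)) (.mul (.l (nat_lit 0)) (.mul (.l (nat_lit 1)) (.mul (.l (nat_lit 8)) (.l (nat_lit 2))))))))]⟩]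
theorem cWR_ok : F.certOK cWR_lv [(.l (nat_lit 51016)), (.l (nat_lit 360)), (.l (nat_lit 169)), (.l (nat_lit 646)), (.l (nat_lit 167)), (.l (nat_lit 34)), (.l (nat_lit 8))] = true := by decide +kernel
theorem cWR (h : H24 D τ) : Nat.card (CZ τ (pws (tR.map Prod.fst))) = 8 := (h.cert cWR_ok).card
noncomputable def cV_0 : Lev := ⟨(nat_lit 8), [(.l (nat_lit 8)), (.l (nat_lit 34)), (.l (nat_lit 167)), (.l (nat_lit 646)), (.l (nat_lit 169)), (.l (nat_lit 360)), (.l (nat_lit 154)), (.l (nat_lit 520)), (.l (nat_lit 1770)), (.l (nat_lit 6388)), (.l (nat_lit 51016))], (nat_lit 0x1dc0080000000000000000000000000000000000000000000000000000000000000000000000000000000000000000001d8004000000000000000000000000001d4008001d0008001c800c001c4008001c0008001b800c001b4008001ac00c001a008c0019c0080000000000000000000000000000000000000000001980040000000000000000001940040018c08400000000000000000018800400180084001740c400000000000000000000000000000000000000000000000000000000001700040000000000000000000000000016c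002000000000000000000000000001680040016000c0015408c001440cc001300ec0012c008000000000000000000128004000000000012400400120004001181080000000000000000001140020000000000110002001080030000000000000000000000000010400400000000000000000010000400000000000fc004000f8008000e40f40000000000000000000e000400000000000dc004000d800800000000000d4004000d0008000c800a00000000000c4002000bc003000b000380000000000ac004000a8004000a01080009c004000941080008810a00080104000781080006c10a0005c10b0004c003c0048004000440080003c00a0003000b0002000b8000802bc000410000a), 120, (.and (.fix (.l (nat_lit 0))) (.fix (.l (nat_lit 1)))), (nat_lit 0), []⟩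
theorem cV_0_ok : Fu45.levOK [z4, v45, u45] cV_0 = true := by decide +kernel
noncomputable def cV_1 : Lev := ⟨(nat_lit 34), [(.l (nat_lit 169)), (.l (nat_lit 360)), (.l (nat_lit 154)), (.l (nat_lit 520)), (.l (nat_lit 1770)), (.l (nat_lit 6388))], (nat_lit 0), 1, (.diff (.and (.and (.fix (.l (nat_lit 1))) (.fix (.l (nat_lit 2)))) (.adj wone (nat_lit 0))) (.pnt wone (nat_lit 0))), (nat_lit 0xd4000800d0000800cc000800c4000c00c0000800000000000000000000000000000000000000000000000000bc0004000000000000000000000000000000000000000000b80004000000000000000000b4000400ac008400000000000000000000000000a8000800a0000c009c00080094000c0088008c00840008007c000c0070008c006000cc005c00080058000400500084004400c4003400e400000000002000f40000000000000000000000000000000000000000001c00080000000006), [.cnt (nat_lit 0) (.and (.adj wone (nat_lit 0)) (.diff (.adj wone (nat_lit 1)) (.fix (.l (nat_lit 3))))), .cnt (nat_lit 169) (.and (.adj wone (nat_lit 0)) (.and (.fix (.l (nat_lit 2))) (.adj wone (nat_lit 1)))), .cnt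 (nat_lit 167) (.and (.adj wone (nat_lit 0)) (.and (.fix (.l (nat_lit 4))) (.adj wone (nat_lit 1)))), .cnt (nat_lit 646) (.and (.adj wone (nat_lit 0)) (.diff (.adj wone (nat_lit 1)) (.fix (.l (nat_lit 2))))), .cnt (nat_lit 51630) (.and (.adj wone (nat_lit 0)) (.and (.adj wone (nat_lit 1)) (.fix (.l (nat_lit 4))))), .cnt (nat_lit 51639) (.and (.adj wone (nat_lit 0)) (.and (.adj wone (nat_lit 1)) (.fix (.l (nat_lit 2))))), .cnt (nat_lit 87475) (.and (.adj wone (nat_lit 0)) (.diff (.adj wone (nat_lit 1)) (.fix (.l (nat_lit 2)))))]⟩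
theorem cV_1_ok : Fu45.levOK [(.l (nat_lit 8)), z4, v45, u45] cV_1 = true := by decide +kernel
noncomputable def cV_2 : Lev := ⟨(nat_lit 167), [(.l (nat_lit 169)), (.l (nat_lit 360)), (.l (nat_lit 154)), (.l (nat_lit 520)), (.l (nat_lit 1770)), (.l (nat_lit 6388))], (nat_lit 0), 1, (.diff (.diff (.and (.and (.fix (.l (nat_lit 2))) (.fix (.l (nat_lit 3)))) (.adj wone (nat_lit 1))) (.pnt wone (nat_lit 1))) (.pnt wone (nat_lit 0))), (nat_lit 0xd0000800cc000800c8000800c0000c00bc000800000000000000000000000000000000000000000000000000b80004000000000000000000000000000000000000000000b40004000000000000000000b0000400a8008400000000000000000000000000a40008009c000c009800080090000c0084008c008000080078000c006c008c005c00cc0058000800540004004c0084004000c4003000e400000000001c00f400000000000000000000000000000000001800080000000006), [.cnt (nat_lit 0) (.and (.adj wone (nat_lit 0)) (.and (.fix (.l (nat_lit 5))) (.adj wone (nat_lit 2)))), .cnt (nat_lit 169) (.and (.adj wone (nat_lit 0)) (.diff (.fix (.l (nat_lit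 5))) (.adj wone (nat_lit 2)))), .cnt (nat_lit 646) (.and (.adj wone (nat_lit 0)) (.and (.adj wone (nat_lit 2)) (.fix (.l (nat_lit 5))))), .cnt (nat_lit 51630) (.and (.adj wone (nat_lit 0)) (.and (.fix (.l (nat_lit 3))) (.adj wone (nat_lit 1)))), .cnt (nat_lit 51639) (.and (.adj wone (nat_lit 0)) (.and (.adj wone (nat_lit 2)) (.fix (.l (nat_lit 5))))), .cnt (nat_lit 87475) (.and (.adj wone (nat_lit 0)) (.and (.fix (.l (nat_lit 3))) (.adj wone (nat_lit 1))))]⟩
theorem cV_2_ok : Fu45.levOK [(.l (nat_lit 34)), (.l (nat_lit 8)), z4, v45, u45] cV_2 = true := by decide +kernel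
noncomputable def cV_3 : Lev := ⟨(nat_lit 646), [(.l (nat_lit 169)), (.l (nat_lit 360)), (.l (nat_lit 154)), (.l (nat_lit 520)), (.l (nat_lit 1770)), (.l (nat_lit 6388))], (nat_lit 0), 1, (.diff (.diff (.diff (.and (.and (.fix (.l (nat_lit 3))) (.fix (.l (nat_lit 4)))) (.adj wone (nat_lit 2))) (.pnt wone (nat_lit 2))) (.pnt wone (nat_lit 1))) (.pnt wone (nat_lit 0))), (nat_lit 0xcc000800c8000800c4000800bc000c00b8000800000000000000000000000000000000000000000000000000b40004000000000000000000000000000000000000000000b00004000000000000000000ac000400a4008400000000000000000000000000a000080098000c00940008008c000c0080008c007c00080074000c0068008c005800cc005400080050000400480084003c00c4002c00e400000000001800f4000000000000000000000000001400080000000006), [.cnt (nat_lit 0) (.and (.adj wone (nat_lit 0)) (.and (.fix (.l (nat_lit 4))) (.adj wone (nat_lit 3)))), .cnt (nat_lit 169) (.and (.adj wone (nat_lit 0)) (.and (.fix (.l (nat_lit 5))) (.adj wone (nat_lit 3)))), .cnt (nat_lit 51630) (.and (.adj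 wone (nat_lit 0)) (.diff (.adj wone (nat_lit 3)) (.fix (.l (nat_lit 6))))), .cnt (nat_lit 51639) (.and (.adj wone (nat_lit 0)) (.and (.fix (.l (nat_lit 5))) (.adj wone (nat_lit 1)))), .cnt (nat_lit 87475) (.and (.adj wone (nat_lit 0)) (.and (.fix (.l (nat_lit 6))) (.adj wone (nat_lit 3))))]⟩
theorem cV_3_ok : Fu45.levOK [(.l (nat_lit 167)), (.l (nat_lit 34)), (.l (nat_lit 8)), z4, v45, u45] cV_3 = true := by decide +kernel
noncomputable def cV_4 : Lev := ⟨(nat_lit 169), [(.l (nat_lit 169)), (.l (nat_lit 360)), (.l (nat_lit 154)), (.l (nat_lit 520)), (.l (nat_lit 1770)), (.l (nat_lit 6388))], (nat_lit 0xbc000800b8000800b4000800ac000c00a8000800000000000000000000000000000000000000000000000000a40004000000000000000000000000000000000000000000a000040000000000000000009c000400940084000000000000000000000000009000080088000c00840008007c000c0070008c006c00080064000c0058008c004800cc004400080040000400380084002c00c4001c00e400000000000800f40004000806), 48, (.diff (.diff (.diff (.diff (.and (.and (.fix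 (.l (nat_lit 4))) (.fix (.l (nat_lit 5)))) (.adj wone (nat_lit 3))) (.pnt wone (nat_lit 3))) (.pnt wone (nat_lit 2))) (.pnt wone (nat_lit 1))) (.pnt wone (nat_lit 0))), (nat_lit 0), [.cnt (nat_lit 0) (.and (.adj wone (nat_lit 0)) (.and (.fix (.l (nat_lit 5))) (.adj wone (nat_lit 2)))), .cnt (nat_lit 51630) (.and (.adj wone (nat_lit 0)) (.and (.fix (.l (nat_lit 5))) (.adj wone (nat_lit 1)))), .cnt (nat_lit 51639) (.and (.adj wone (nat_lit 0)) (.and (.adj wone (nat_lit 1)) (.fix (.l (nat_lit 5))))), .cnt (nat_lit 87475) (.and (.adj wone (nat_lit 0)) (.diff (.adj wone (nat_lit 4)) (.fix (.l (nat_lit 6)))))]⟩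
theorem cV_4_ok : Fu45.levOK [(.l (nat_lit 646)), (.l (nat_lit 167)), (.l (nat_lit 34)), (.l (nat_lit 8)), z4, v45, u45] cV_4 = true := by decide +kernel
noncomputable def cV_5 : Lev := ⟨(nat_lit 360), [(.l (nat_lit 169)), (.l (nat_lit 154)), (.l (nat_lit 520)), (.l (nat_lit 1770)), (.l (nat_lit 6388))], (nat_lit 0x7c0004000000000000000000000000007800040000000000000000007400040000000000700004006800440000000000000000006400040000000000600004005800440000000000540004004c00440040006400000000003c0004003400440028006400180074000000000004007c05), 32, (.diff (.and (.and (.fix (.l (nat_lit 5))) (.fix (.l (nat_lit 6)))) (.adj wone (nat_lit 4))) (.adj wone (nat_lit 0))), (nat_lit 0), []⟩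
theorem cV_5_ok : Fu45.levOK [(.l (nat_lit 169)), (.l (nat_lit 646)), (.l (nat_lit 167)), (.l (nat_lit 34)), (.l (nat_lit 8)), z4, v45, u45] cV_5 = true := by decide +kernel
noncomputable def cV_6 : Lev := ⟨(nat_lit 51016), [(.l (nat_lit 8)), (.l (nat_lit 34)), (.l (nat_lit 167)), (.l (nat_lit 646))], (nat_lit 0x3c00200000000000000000003800200000000000340020002c0030000000000028002000200030001400380004003c04), 16, (.diff (.diff (.and (.and (.fix (.l (nat_lit 6))) (.fix (.l (nat_lit 7)))) (.adj wone (nat_lit 1))) (.adj wone (nat_lit 5))) (.adj wone (nat_lit 0))), (nat_lit 0), []⟩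
theorem cV_6_ok : Fu45.levOK [(.l (nat_lit 360)), (.l (nat_lit 169)), (.l (nat_lit 646)), (.l (nat_lit 167)), (.l (nat_lit 34)), (.l (nat_lit 8)), z4, v45, u45] cV_6 = true := by decide +kernel
theorem cV (h : H24 D τ) : Nat.card (CZ τ [z4, v45, u45]) ≤ 23592960 := by
  have := h.fin
  have e0 : Nat.card (CZ τ [z4, v45, u45]) = 120 * Nat.card (CZ τ [.l (nat_lit 8), z4, v45, u45]) :=
    (hv45 h).card_cons _ cV_0_ok
  have e1 : Nat.card (CZ τ [.l (nat_lit 8), z4, v45, u45]) = 1 * Nat.card (CZ τ [.l (nat_lit 34), .l (nat_lit 8), z4, v45, u45]) :=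
    (hv45 h).card_cons _ cV_1_ok
  have e2 : Nat.card (CZ τ [.l (nat_lit 34), .l (nat_lit 8), z4, v45, u45]) = 1 * Nat.card (CZ τ [.l (nat_lit 167), .l (nat_lit 34), .l (nat_lit 8), z4, v45, u45]) :=
    (hv45 h).card_cons _ cV_2_ok
  have e3 : Nat.card (CZ τ [.l (nat_lit 167), .l (nat_lit 34), .l (nat_lit 8), z4, v45, u45]) = 1 * Nat.card (CZ τ [.l (nat_lit 646), .l (nat_lit 167), .l (nat_lit 34), .l (nat_lit 8), z4, v45, u45]) :=
    (hv45 h).card_cons _ cV_3_ok
  have e4 : Nat.card (CZ τ [.l (nat_lit 646), .l (nat_lit 167), .l (nat_lit 34), .l (nat_lit 8), z4, v45, u45]) = 48 * Nat.card (CZ τ [.l (nat_lit 169), .l (nat_lit 646), .l (nat_lit 167), .l (nat_lit 34), .l (nat_lit 8), z4, v45, u45]) :=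
    (hv45 h).card_cons _ cV_4_ok
  have e5 : Nat.card (CZ τ [.l (nat_lit 169), .l (nat_lit 646), .l (nat_lit 167), .l (nat_lit 34), .l (nat_lit 8), z4, v45, u45]) = 32 * Nat.card (CZ τ [.l (nat_lit 360), .l (nat_lit 169), .l (nat_lit 646), .l (nat_lit 167), .l (nat_lit 34), .l (nat_lit 8), z4, v45, u45]) :=
    (hv45 h).card_cons _ cV_5_ok
  have e6 : Nat.card (CZ τ [.l (nat_lit 360), .l (nat_lit 169), .l (nat_lit 646), .l (nat_lit 167), .l (nat_lit 34), .l (nat_lit 8), z4, v45, u45]) = 16 * Nat.card (CZ τ [.l (nat_lit 51016), .l (nat_lit 360), .l (nat_lit 169), .l (nat_lit 646), .l (nat_lit 167), .l (nat_lit 34), .l (nat_lit 8), z4, v45, u45]) :=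
    (hv45 h).card_cons _ cV_6_ok
  have e : Nat.card (CZ τ [.l (nat_lit 51016), .l (nat_lit 360), .l (nat_lit 169), .l (nat_lit 646), .l (nat_lit 167), .l (nat_lit 34), .l (nat_lit 8), z4, v45, u45]) ≤ 8 :=
    (cWR h).le.trans' (Subgroup.card_le_of_le fun g hg => mem_CZ.2 fun t ht => mem_CZ.1 hg t (List.mem_append_left [z4, v45, u45] ht))
  omega
noncomputable def Y6 : List W := [wone, (tw [(nat_lit 360), (nat_lit 8)]), (tw [(nat_lit 169), (nat_lit 8)]), (tw [(nat_lit 51268), (nat_lit 360)]), (tw [(nat_lit 520), (nat_lit 8)])]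
theorem Y6_pres : subOK F.eqOK YR (presL Mult.A6.iv Mult.A6.rels Y6) (nat_lit 2) (nat_lit 15) (presL Mult.A6.iv Mult.A6.rels Y6).length [(nat_lit 0), (nat_lit 0), (nat_lit 0), (nat_lit 0), (nat_lit 0), (nat_lit 0), (nat_lit 0), (nat_lit 0), (nat_lit 0), (nat_lit 0), (nat_lit 0), (nat_lit 0), (nat_lit 0)] = true := by decide +kernel
noncomputable def X3 : List W := [(tw [(nat_lit 50), (nat_lit 110)]), (tw [(nat_lit 3), (nat_lit 51627)]), (tw [(nat_lit 184414), (nat_lit 235314)])]
def nR_T : List (List ℕ) := [[(nat_lit 1), (nat_lit 2), (nat_lit 6), (nat_lit 16), (nat_lit 8), (nat_lit 32), (nat_lit 320), (nat_lit 130), (nat_lit 256), (nat_lit 2048), (nat_lit 3586), (nat_lit 512), (nat_lit 4098), (nat_lit 14853), (nat_lit 16386)],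
  [(nat_lit 2), (nat_lit 1), (nat_lit 4), (nat_lit 39), (nat_lit 63), (nat_lit 15), (nat_lit 386), (nat_lit 321), (nat_lit 256), (nat_lit 3078), (nat_lit 1024), (nat_lit 1541), (nat_lit 4099), (nat_lit 18085), (nat_lit 10574)],
  [(nat_lit 1), (nat_lit 5), (nat_lit 3), (nat_lit 15), (nat_lit 26), (nat_lit 39), (nat_lit 257), (nat_lit 135), (nat_lit 65), (nat_lit 2560), (nat_lit 3072), (nat_lit 2048), (nat_lit 14339), (nat_lit 8199), (nat_lit 16391)],
  [(nat_lit 1), (nat_lit 2), (nat_lit 4), (nat_lit 8), (nat_lit 16), (nat_lit 32), (nat_lit 576), (nat_lit 1669), (nat_lit 2817), (nat_lit 512), (nat_lit 1024), (nat_lit 2048), (nat_lit 4121), (nat_lit 8200), (nat_lit 17957)],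
  [(nat_lit 1), (nat_lit 2), (nat_lit 4), (nat_lit 8), (nat_lit 16), (nat_lit 32), (nat_lit 64), (nat_lit 128), (nat_lit 256), (nat_lit 576), (nat_lit 1221), (nat_lit 2369), (nat_lit 4121), (nat_lit 8521), (nat_lit 16416)],
  [(nat_lit 1), (nat_lit 2), (nat_lit 4), (nat_lit 8200), (nat_lit 14868), (nat_lit 18050), (nat_lit 14404), (nat_lit 16423), (nat_lit 4356), (nat_lit 512), (nat_lit 1024), (nat_lit 2048), (nat_lit 4096), (nat_lit 8192), (nat_lit 17925)],
  [(nat_lit 1), (nat_lit 2), (nat_lit 4), (nat_lit 8), (nat_lit 16), (nat_lit 32), (nat_lit 64), (nat_lit 128), (nat_lit 256), (nat_lit 594), (nat_lit 1268), (nat_lit 2380), (nat_lit 4358), (nat_lit 8200), (nat_lit 16515)]]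
theorem nR_ok0 : repOK F.eqOK YR (nat_lit 2) (nat_lit 3) (nat_lit 15) (((X3 ++ Y6.tail)).take 4) ((nR_T).take 4) = true := by decide +kernel
theorem nR_ok1 : repOK F.eqOK YR (nat_lit 2) (nat_lit 3) (nat_lit 15) (((X3 ++ Y6.tail)).drop 4) ((nR_T).drop 4) = true := by decide +kernel
theorem nR_ok : repOK F.eqOK YR (nat_lit 2) (nat_lit 3) (nat_lit 15) (X3 ++ Y6.tail) nR_T = true :=
  (repOK_split 4 nR_ok0 nR_ok1)
def r3_T : List (List ℕ) := [[(nat_lit 1), (nat_lit 2), (nat_lit 6)],
  [(nat_lit 2), (nat_lit 1), (nat_lit 4)],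
  [(nat_lit 1), (nat_lit 5), (nat_lit 3)]]
theorem r3_ok : repOK F.eqOK YR (nat_lit 2) (nat_lit 0) (nat_lit 3) X3 r3_T = true := by decide +kernel
def ch3_ws : List (List ℕ × ℕ) := [([(nat_lit 2), (nat_lit 0), (nat_lit 2)], (nat_lit 1)), ([(nat_lit 2), (nat_lit 1), (nat_lit 2)], (nat_lit 1)), ([(nat_lit 4), (nat_lit 3), (nat_lit 4)], (nat_lit 1))]
def ch3_ls : List Grp.Lv := [
  ⟨(nat_lit 4), (nat_lit 7), (nat_lit 4), (nat_lit 287322912), [(nat_lit 0), (nat_lit 1), (nat_lit 2)]⟩,
  ⟨(nat_lit 1), (nat_lit 6), (nat_lit 3), (nat_lit 590356736), [(nat_lit 1), (nat_lit 3), (nat_lit 4)]⟩,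
  ⟨(nat_lit 2), (nat_lit 4), (nat_lit 2), (nat_lit 301998080), [(nat_lit 3), (nat_lit 5)]⟩]
theorem ch3 : Grp.chnK (nat_lit 8) (nat_lit 3) (get (nat_lit 3)) (get (nat_lit 4)) 168 ((r3_T.map (matC (nat_lit 2) (nat_lit 0) (nat_lit 3))).map (tabM (nat_lit 2) (nat_lit 3) (nat_lit 8) (nat_lit 3))) ch3_ws ch3_ls = true := by decide +kernel
noncomputable def Yc6 : List W := X3.flatMap fun x => Y6.map fun t => .mul (.mul (.mul x t) (.inv x)) (.inv t)
theorem Y6_com : subOK F.eqOK YR Yc6 (nat_lit 2) (nat_lit 15) Yc6.length [(nat_lit 0), (nat_lit 0), (nat_lit 256), (nat_lit 6661), (nat_lit 446), (nat_lit 0), (nat_lit 47), (nat_lit 47), (nat_lit 26277), (nat_lit 304), (nat_lit 0), (nat_lit 2095), (nat_lit 366), (nat_lit 20133), (nat_lit 355)] = true := by decide +kernel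
theorem Y6_gen : F.genOK [z4, v45, u45] (YR ++ Y6) = true := by decide +kernel
theorem Y6_ev : evenOK 306936 (X3 ++ (YR ++ Y6)) = true := by decide +kernel
theorem Y6_np : F.npE 3 (.mul (nthW Y6 1) (nthW Y6 2)) (nat_lit 75) = true := by decide +kernel

end Cfsg.Lib.Fi.M24
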