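import Cfsg.Agent.Lib.Fi.LfS

set_option autoImplicit false
set_option maxRecDepth 1000000
set_option maxHeartbeats 0
set_option Elab.async false

namespace Cfsg.Lib.Fi.M24

open Cfsg.Lib.Calc

variable {G : Type*} [Group G] {D : Set G} {τ : ℕ → G}
def rw4_T : List (List ℕ) := [[(nat_lit 1), (nat_lit 4), (nat_lit 6), (nat_lit 24), (nat_lit 9), (nat_lit 96), (nat_lit 32), (nat_lit 281), (nat_lit 392), (nat_lit 1537), (nat_lit 513), (nat_lit 6147), (nat_lit 2053)]]
theorem rw4_ok : repOK F.eqOK YQ4 (nat_lit 2) (nat_lit 1) (nat_lit 13) [w4] rw4_T = true := by decide +kernel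
theorem rw4_mat : ∀ A ∈ rw4_T.map (matC 2 1 12), Grp.mat (Nat.cast : ℕ → ZMod 2) 2 12 A * Grp.mat Nat.cast 2 12 A + Grp.mat Nat.cast 2 12 A = 1 := by decide +kernel
noncomputable def k51 : W := (tw [(nat_lit 154), (nat_lit 32427), (nat_lit 167), (nat_lit 39256)])
noncomputable def l51 : W := (tw [(nat_lit 167), (nat_lit 32427), (nat_lit 22562), (nat_lit 352)])
noncomputable def c51 : W := .mul (.mul (.mul k51 l51) (.inv k51)) (.inv l51)
theorem k51_gen : F.genOK [z4, w4] [k51, l51] = true := by decide +kernel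
theorem k51_ev : evenOK 306936 [k51, l51] = true := by decide +kernel
theorem c51_eq : F.eqOK (.pow c51 5) (.mul z4 w4) = true := by decide +kernel
theorem c51_ne : F.neOK (.pow c51 6) wone (nat_lit 34) = true := by decide +kernel

end Cfsg.Lib.Fi.M24
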