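import Cfsg.Agent.Lib.Fi.LfS
import Cfsg.Agent.Lib.Fi.Cox

set_option autoImplicit false
set_option maxRecDepth 1000000
set_option maxHeartbeats 0
set_option Elab.async false

namespace Cfsg.Lib.Fi.M24

open Cfsg.Lib.Calc

variable {G : Type*} [Group G] {D : Set G} {τ : ℕ → G}
noncomputable def x43 : List W := [(tw [(nat_lit 49060), (nat_lit 54538)]), (tw [(nat_lit 2274), (nat_lit 2276)]), (tw [(nat_lit 88611), (nat_lit 126641)]), (tw [(nat_lit 1), (nat_lit 5)]), (tw [(nat_lit 106791), (nat_lit 137064)]), (tw [(nat_lit 282138), (nat_lit 297717)])]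
def x43_T : List (List ℕ) := [[(nat_lit 0), (nat_lit 1313), (nat_lit 0), (nat_lit 0), (nat_lit 699), (nat_lit 1313)],
  [(nat_lit 1313), (nat_lit 0), (nat_lit 0), (nat_lit 4099), (nat_lit 0), (nat_lit 0)],
  [(nat_lit 0), (nat_lit 0), (nat_lit 0), (nat_lit 2), (nat_lit 0), (nat_lit 0)],
  [(nat_lit 0), (nat_lit 4099), (nat_lit 2), (nat_lit 0), (nat_lit 2), (nat_lit 473)],
  [(nat_lit 699), (nat_lit 0), (nat_lit 0), (nat_lit 2), (nat_lit 0), (nat_lit 0)],
  [(nat_lit 1313), (nat_lit 0), (nat_lit 0), (nat_lit 473), (nat_lit 0), (nat_lit 0)]]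
theorem x43_ok : coxK F.eqOK YQ4 2 13 x43 CoxeterMatrix.E₆ x43_T = true := by decide +kernel
theorem x43_np : F.npE 3 (.mul (nthW x43 0) (nthW x43 2)) (nat_lit 16) = true := by decide +kernel
theorem x43_ev : evenOK 306936 x43 = true := by decide +kernel
theorem x43_gen : F.genOK [z4] x43 = true := by decide +kernel
theorem x43_t : allA (x43 ++ YQ4) (fun x => F.eqOK (.mul x (tw [0, 8])) (.mul (tw [0, 8]) x) || F.eqOK (.mul x (tw [0, 8])) (.mul (.mul (tw [0, 8]) z4) x)) = true := by decide +kernel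

end Cfsg.Lib.Fi.M24
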